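import Groth.Agent.LinTop7.OpenMap
import Mathlib.RingTheory.AdicCompletion.LocalRing
import Mathlib.LinearAlgebra.Dual.Lemmas
import Mathlib.Topology.Algebra.Module.LinearMap
import Mathlib.RingTheory.Localization.AtPrime.Basic
import Mathlib.Topology.Algebra.UniformMulAction

/-!
# Faithfully flat descent of topological properties; functionals; completions
-/

noncomputable section

namespace Groth.Agent.LinTop7

universe u v

open Topology Filter LinTop

section FFlat

variable {A : Type u} [CommRing A] [TopologicalSpace A] [IsTopologicalRing A] [IsLinearTopology A A]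
variable {B : Type v} [CommRing B] [TopologicalSpace B] [IsTopologicalRing B]
variable {φ : A →+* B}

omit [IsTopologicalRing A] [IsLinearTopology A A] in
theorem comap_closure_map (h : IsTautFFlat φ) {I : Ideal A} (hI : IsOpen (I : Set A)) {x : A}
    (hx : φ x ∈ (I.map φ).closure) : x ∈ I := by
  refine Ideal.Quotient.eq_zero_iff_mem.mp ((h.2 I hI).injective ?_)
  rw [map_zero, descentMap, Ideal.quotientMap_mk]
  exact Ideal.Quotient.eq_zero_iff_mem.mpr hx

omit [IsTopologicalRing A] in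
theorem isCountablyGenerated_of_isTautFFlat (h : IsTautFFlat φ)
    (hB : (nhds (0 : B)).IsCountablyGenerated) [IsTopologicalRing A] :
    (nhds (0 : A)).IsCountablyGenerated := by
  obtain ⟨s, hs⟩ := (𝓝 (0 : B)).exists_antitone_basis
  choose I hI hIs using fun n => h.1.2.2 (s n) (hs.toHasBasis.mem_of_mem trivial)
  refine HasBasis.isCountablyGenerated (p := fun _ : ℕ => True) (s := fun n => (I n : Set A))
    ⟨fun U => ⟨fun hU => ?_, fun ⟨n, _, hn⟩ => Filter.mem_of_superset (mem_nhds_of_isOpen (hI n)) hn⟩⟩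
  obtain ⟨K, hK, hKU⟩ := (hasBasis_open_ideal A).mem_iff.mp hU
  have hKo : IsOpen ((K.map φ).closure : Set B) := h.1.2.1 K hK
  obtain ⟨n, -, hn⟩ := hs.toHasBasis.mem_iff.mp (mem_nhds_of_isOpen hKo)
  exact ⟨n, trivial, fun x hx => hKU (comap_closure_map h hK
    (hn (hIs n (subset_closure (Ideal.mem_map_of_mem φ hx)))))⟩

theorem isWeaklyPreadmissible_of_isTautFFlat (h : IsTautFFlat φ) (hB : IsWeaklyPreadmissible B) :
    IsWeaklyPreadmissible A := by
  obtain ⟨_, J, hJ⟩ := hB
  obtain ⟨I, hI, hIJ⟩ := h.1.2.2 _ (mem_nhds_of_isOpen hJ.1)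
  refine ⟨inferInstance, I, hI, fun f hf => (isTopologicallyNilpotent_iff_forall f).mpr fun K hK => ?_⟩
  have hKo : IsOpen ((K.map φ).closure : Set B) := h.1.2.1 K hK
  obtain ⟨n, -, hn⟩ := exists_pow_mem hKo
    (hJ.2 _ (hIJ (subset_closure (Ideal.mem_map_of_mem φ hf))))
  exact ⟨n, comap_closure_map h hK (by rwa [map_pow])⟩

theorem exists_idealOfDefinition_of_isTautFFlat (h : IsTautFFlat φ) {J : Ideal B}
    (hJ : IsIdealOfDefinition B J) :
    ∃ I : Ideal A, IsIdealOfDefinition A I ∧ (I.map φ).closure ≤ J := by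
  obtain ⟨I, hI, hIJ⟩ := h.1.2.2 _ (mem_nhds_of_isOpen hJ.1)
  refine ⟨I, ⟨hI, fun U hU => ?_⟩, hIJ⟩
  obtain ⟨K, hK, hKU⟩ := (hasBasis_open_ideal A).mem_iff.mp hU
  obtain ⟨n, hn, hle⟩ := pow_le_of_isIdealOfDefinition hJ
    (U := (K.map φ).closure) (h.1.2.1 K hK)
  refine ⟨n, hn, fun x hx => hKU (comap_closure_map h hK (hle ?_))⟩
  refine Ideal.pow_right_mono ((le_closure _).trans hIJ) n ?_
  rw [← Ideal.map_pow]
  exact Ideal.mem_map_of_mem φ hx

theorem isPreadmissible_of_isTautFFlat (h : IsTautFFlat φ) (hB : IsPreadmissible B) :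
    IsPreadmissible A := by
  obtain ⟨_, J, hJ⟩ := hB
  obtain ⟨I, hI, -⟩ := exists_idealOfDefinition_of_isTautFFlat h hJ
  exact ⟨inferInstance, I, hI⟩

theorem isOpen_closure_of_isOpen_closure_map (h : IsTautFFlat φ) (L : Ideal A)
    (hW : IsOpen ((L.map φ).closure : Set B)) : IsOpen (L.closure : Set A) := by
  obtain ⟨I, hI, hIW⟩ := h.1.2.2 _ (mem_nhds_of_isOpen hW)
  refine isOpen_of_le (fun x hx => ?_) hI
  show x ∈ closure (L : Set A)
  rw [mem_closure_iff_nhds]
  intro V hV
  obtain ⟨K, hK, hKV⟩ := (hasBasis_open_ideal A).mem_iff.mp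
    ((continuous_const_add x).continuousAt.preimage_mem_nhds (x := 0) (t := V) (by simpa using hV))
  have hKL : IsOpen ((L ⊔ K : Ideal A) : Set A) := isOpen_of_le le_sup_right hK
  obtain ⟨l, hl, k, hk, rfl⟩ := Submodule.mem_sup.mp (comap_closure_map h hKL
    (closure_mono (Ideal.map_mono le_sup_left) (hIW (subset_closure (Ideal.mem_map_of_mem φ hx)))))
  refine ⟨l, ?_, hl⟩
  simpa using hKV (neg_mem hk)

theorem isWeaklyPreadic_of_isTautFFlat (h : IsTautFFlat φ) (hB : IsWeaklyPreadic B) :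
    IsWeaklyPreadic A := by
  have hB' := hB
  obtain ⟨_, J, h1, h2⟩ := hB'
  have hJdef : IsIdealOfDefinition B (J ^ 1).closure := ⟨h1 1, fun U hU => by
    obtain ⟨n, hn⟩ := h2 U hU
    refine ⟨n + 1, n.succ_pos, fun x hx => hn ?_⟩
    have := closure_pow_le (J ^ 1) (n + 1) hx
    rw [pow_one] at this
    exact closure_mono (Ideal.pow_le_pow_right n.le_succ) this⟩
  obtain ⟨I, hI, hIJ⟩ := exists_idealOfDefinition_of_isTautFFlat h hJdef
  have hJ'def : IsIdealOfDefinition B (I.map φ).closure :=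
    isIdealOfDefinition_of_pow_le hJdef (h.1.2.1 I hI.1) Nat.one_pos (by rwa [pow_one])
  refine isWeaklyPreadic_of_def hI fun n _ => ?_
  refine isOpen_closure_of_isOpen_closure_map h (I ^ n) ?_
  have ho : IsOpen (((I.map φ).closure ^ n).closure : Set B) :=
    open_closure_pow_of_isWeaklyPreadic hB hJ'def n
  refine isOpen_of_le ?_ ho
  rw [Ideal.map_pow]
  exact (closure_mono (closure_pow_le _ n)).trans (closure_closure _).le

end FFlat

theorem exists_fg_le_map {A : Type u} [CommRing A] {B : Type v} [CommRing B] (φ : A →+* B)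
    (I : Ideal A) {P Q : Ideal B} (hP : P.FG) (h : P ≤ I.map φ ⊔ Q) :
    ∃ F : Ideal A, F.FG ∧ F ≤ I ∧ P ≤ F.map φ ⊔ Q := by
  classical
  have key : ∀ y ∈ I.map φ, ∃ F : Ideal A, F.FG ∧ F ≤ I ∧ y ∈ F.map φ := by
    intro y hy
    induction hy using Submodule.span_induction with
    | mem y hy =>
      obtain ⟨a, ha, rfl⟩ := hy
      exact ⟨Ideal.span {a}, ⟨{a}, by simp⟩, (Ideal.span_singleton_le_iff_mem _).mpr ha,
        Ideal.mem_map_of_mem _ (Ideal.mem_span_singleton_self a)⟩
    | zero => exact ⟨⊥, Submodule.fg_bot, bot_le, zero_mem _⟩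
    | add x y _ _ hx hy =>
      obtain ⟨F, hF, hFI, hxF⟩ := hx
      obtain ⟨F', hF', hFI', hyF⟩ := hy
      exact ⟨F ⊔ F', Submodule.FG.sup hF hF', sup_le hFI hFI',
        add_mem (Ideal.map_mono le_sup_left hxF) (Ideal.map_mono le_sup_right hyF)⟩
    | smul c x _ hx =>
      obtain ⟨F, hF, hFI, hxF⟩ := hx
      exact ⟨F, hF, hFI, Submodule.smul_mem _ c hxF⟩
  obtain ⟨s, rfl⟩ := hP
  induction s using Finset.induction with
  | empty => exact ⟨⊥, Submodule.fg_bot, bot_le, by simp⟩
  | insert z s _ ih =>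
    rw [Finset.coe_insert, Ideal.span_insert] at h ⊢
    obtain ⟨F, hF, hFI, hsF⟩ := ih (le_sup_right.trans h)
    obtain ⟨y, hy, q, hq, hyq⟩ := Submodule.mem_sup.mp
      (h (Submodule.mem_sup_left (Submodule.mem_span_singleton_self z)))
    obtain ⟨F', hF', hFI', hyF⟩ := key y hy
    refine ⟨F ⊔ F', Submodule.FG.sup hF hF', sup_le hFI hFI', sup_le ?_
      (hsF.trans (sup_le_sup_right (Ideal.map_mono le_sup_left) Q))⟩
    rw [Submodule.span_singleton_le_iff_mem, ← hyq]
    exact Submodule.add_mem_sup (Ideal.map_mono le_sup_right hyF) hq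

theorem isAdicRing_of_isTautFFlat {A : Type u} [CommRing A] [UniformSpace A] [IsUniformAddGroup A]
    [IsTopologicalRing A] [IsLinearTopology A A] [T2Space A] [CompleteSpace A]
    {B : Type v} [CommRing B] [UniformSpace B] [IsTopologicalRing B]
    (hB : IsAdicRing B) (hJ : ∃ J : Ideal B, IsIdealOfDefinition B J ∧ J.FG)
    {φ : A →+* B} (hφ : IsTautFFlat φ) :
    IsAdicRing A ∧ ∃ I : Ideal A, IsIdealOfDefinition A I ∧ I.FG := by
  obtain ⟨J, hJ, hJfg⟩ := hJ
  have hadic := isAdic_of_isIdealOfDefinition hB.1 hJ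
  obtain ⟨hJo, -⟩ := isAdic_iff.mp hadic
  obtain ⟨I, hI, -⟩ := exists_idealOfDefinition_of_isTautFFlat hφ hJ
  have hIo : IsOpen ((I.map φ).closure : Set B) := hφ.1.2.1 I hI.1
  obtain ⟨m, hm⟩ := (isAdic_iff.mp hadic).2 _ (mem_nhds_of_isOpen hIo)
  obtain ⟨F, hFfg, hFI, hmF⟩ := exists_fg_le_map φ I (P := J ^ m) (Q := J ^ (m + 1)) hJfg.pow
    ((show J ^ m ≤ (I.map φ).closure from hm).trans (closure_subset_sup _ _ (hJo (m + 1))))
  have hstep : ∀ j, J ^ m ≤ F.map φ ⊔ J ^ (m + j) := by
    intro j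
    induction j with
    | zero => exact le_sup_right
    | succ j ih =>
      refine ih.trans (sup_le le_sup_left ?_)
      rw [pow_add, ← add_assoc, pow_succ, pow_add]
      refine (Ideal.mul_mono_left hmF).trans ?_
      rw [Ideal.sup_mul]
      refine sup_le (le_sup_of_le_left Ideal.mul_le_left) (le_sup_of_le_right ?_)
      rw [pow_succ, mul_right_comm]
  have hW : J ^ m ≤ (F.map φ).closure := fun x hx => by
    show x ∈ closure ((F.map φ : Ideal B) : Set B)
    rw [closure_eq_iInter_sup (fun j => J ^ j) hadic.hasBasis_nhds_zero]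
    refine Set.mem_iInter.mpr fun j => ?_
    exact (sup_le_sup le_rfl (Ideal.pow_le_pow_right (Nat.le_add_left j m)) :
      F.map φ ⊔ J ^ (m + j) ≤ F.map φ ⊔ J ^ j) (hstep j hx)
  have hopen : ∀ n : ℕ, IsOpen (closure ((F ^ n : Ideal A) : Set A)) := fun n => by
    refine isOpen_closure_of_isOpen_closure_map hφ (F ^ n) (isOpen_of_le ?_ (hJo (m * n)))
    rw [pow_mul, Ideal.map_pow]
    exact (Ideal.pow_right_mono hW n).trans (closure_pow_le _ n)
  have hFadic : IsAdic F := isAdic_of_fg_closure F hFfg hopen fun U hU => by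
    obtain ⟨U', hU', hU'U⟩ := (hasBasis_open_ideal A).mem_iff.mp hU
    obtain ⟨n, -, hn⟩ := pow_le_of_isIdealOfDefinition hI hU'
    exact ⟨n, fun x hx => hU'U (closure_le hU' ((Ideal.pow_right_mono hFI n).trans hn) hx)⟩
  exact ⟨⟨⟨F, hFadic⟩, inferInstance, inferInstance⟩, F, isIdealOfDefinition_of_isAdic hFadic, hFfg⟩

section Dual

variable (k : Type u) (M : Type v) [Field k] [TopologicalSpace k] [DiscreteTopology k]
  [AddCommGroup M] [Module k M] [TopologicalSpace M] [IsTopologicalAddGroup M] [IsLinearTopology k M]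

omit [IsLinearTopology k M] in
theorem continuous_of_isOpen_le_ker (f : M →ₗ[k] k) {W : Submodule k M} (hW : IsOpen (W : Set M))
    (h : W ≤ LinearMap.ker f) : Continuous f := by
  refine continuous_of_continuousAt_zero f.toAddMonoidHom ?_
  intro U hU
  have : (0 : k) ∈ U := by simpa using mem_of_mem_nhds hU
  rw [Filter.mem_map]
  exact Filter.mem_of_superset (hW.mem_nhds (zero_mem W)) fun w hw => by
    show f w ∈ U
    rwa [h hw]

theorem exists_open_sup_notMem {M₁ : Submodule k M} (hM₁ : IsClosed (M₁ : Set M)) {x : M} (hx : x ∉ M₁) :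
    ∃ U : Submodule k M, IsOpen (U : Set M) ∧ x ∉ M₁ ⊔ U := by
  obtain ⟨U, hU, hUx⟩ := (IsLinearTopology.hasBasis_open_submodule k).mem_iff.mp
    ((continuous_const_add x).continuousAt.preimage_mem_nhds (x := 0) (t := (M₁ : Set M)ᶜ)
      (by simpa using hM₁.isOpen_compl.mem_nhds hx))
  refine ⟨U, hU, fun hx' => ?_⟩
  obtain ⟨m, hm, u, hu, rfl⟩ := Submodule.mem_sup.mp hx'
  exact hUx (neg_mem hu) (by simpa using hm)

theorem mem_of_dual_annihilator (M₁ : Submodule k M) (hM₁ : IsClosed (M₁ : Set M)) (x : M)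
    (hx : ∀ φ : M →L[k] k, (∀ m ∈ M₁, φ m = 0) → φ x = 0) : x ∈ M₁ := by
  by_contra hne
  obtain ⟨U, hU, hxU⟩ := exists_open_sup_notMem k M hM₁ hne
  obtain ⟨f, hfx, hf⟩ := Submodule.exists_dual_map_eq_bot_of_notMem hxU inferInstance
  have hker : M₁ ⊔ U ≤ LinearMap.ker f := fun y hy =>
    (Submodule.mem_bot k).mp (hf ▸ Submodule.mem_map_of_mem hy)
  exact hfx (hx ⟨f, continuous_of_isOpen_le_ker k M f hU (le_sup_right.trans hker)⟩
    fun m hm => hker (Submodule.mem_sup_left hm))

theorem exists_dual_extension (M₁ M₂ : Submodule k M) (h₁₂ : M₁ ≤ M₂) (ψ : M₂ →L[k] k)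
    (hψ : ∀ m : M₂, (m : M) ∈ M₁ → ψ m = 0) :
    ∃ φ : M →L[k] k, (∀ m ∈ M₁, φ m = 0) ∧ ∀ m : M₂, φ (m : M) = ψ m := by
  have h0 : ψ ⁻¹' {0} ∈ 𝓝 (0 : M₂) :=
    ψ.continuous.continuousAt.preimage_mem_nhds ((isOpen_discrete _).mem_nhds (by simp))
  rw [nhds_induced, Filter.mem_comap] at h0
  obtain ⟨V, hV, hVψ⟩ := h0
  obtain ⟨U, hU, hUV⟩ := (IsLinearTopology.hasBasis_open_submodule k).mem_iff.mp
    (show V ∈ 𝓝 (0 : M) by simpa using hV)
  let W := M₁ ⊔ U
  let j : M₂ →ₗ[k] M ⧸ W := W.mkQ ∘ₗ M₂.subtype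
  have hj : LinearMap.ker j ≤ LinearMap.ker ψ.toLinearMap := by
    intro m hm
    have hmW : (m : M) ∈ W := (Submodule.Quotient.mk_eq_zero W).mp hm
    obtain ⟨a, ha, b, hb, hab⟩ := Submodule.mem_sup.mp hmW
    have hb2 : b ∈ M₂ := by
      have : b = (m : M) - a := by rw [← hab]; abel
      rw [this]; exact sub_mem m.2 (h₁₂ ha)
    have e : m = (⟨a, h₁₂ ha⟩ : M₂) + ⟨b, hb2⟩ := Subtype.ext hab.symm
    show ψ m = 0
    rw [e, map_add, hψ _ ha, hVψ (show (⟨b, hb2⟩ : M₂) ∈ Subtype.val ⁻¹' V from hUV hb), add_zero]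
  have : ψ.toLinearMap ∈ LinearMap.range j.dualMap := by
    rw [LinearMap.range_dualMap_eq_dualAnnihilator_ker, Submodule.mem_dualAnnihilator]
    exact fun m hm => hj hm
  obtain ⟨g, hg⟩ := this
  have hW : W ≤ LinearMap.ker (g ∘ₗ W.mkQ) := fun w hw => by
    show g (W.mkQ w) = 0
    rw [Submodule.mkQ_apply, (Submodule.Quotient.mk_eq_zero W).mpr hw, map_zero]
  exact ⟨⟨g ∘ₗ W.mkQ, continuous_of_isOpen_le_ker k M _ hU (le_sup_right.trans hW)⟩,
    fun m hm => hW (Submodule.mem_sup_left hm), fun m => congr($hg m)⟩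

end Dual

theorem isLocalRing_adicCompletion {R : Type u} [CommRing R] [IsLocalRing R] (J : Ideal R)
    (hJ : J.FG) (hle : J ≤ IsLocalRing.maximalIdeal R) : IsLocalRing (AdicCompletion J R) := by
  have hmax := AdicCompletion.isMaximal_map_of_le J _ hle hJ
  have := AdicCompletion.isAdicComplete_self J hJ
  refine IsLocalRing.of_unique_max_ideal ⟨_, hmax, fun N hN => ?_⟩
  have hker : RingHom.ker (AdicCompletion.evalOneₐ J).toRingHom ≤ N := by
    refine le_trans (AdicCompletion.ker_evalOneₐ_eq_map J hJ).le ?_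
    exact (IsAdicComplete.le_jacobson_bot _).trans (sInf_le ⟨bot_le, hN⟩)
  refine (hmax.eq_of_le hN.ne_top ?_).symm
  have hNm : (N.comap (algebraMap R (AdicCompletion J R))).IsMaximal := by
    have h1 : (N.map (AdicCompletion.evalOneₐ J).toRingHom).IsMaximal :=
      Ideal.IsMaximal.map_of_surjective_of_ker_le (AdicCompletion.evalOneₐ_surjective J) hker
    have h2 : N = (N.map (AdicCompletion.evalOneₐ J).toRingHom).comap (AdicCompletion.evalOneₐ J).toRingHom := by
      exact ((Ideal.comap_map_of_surjective' (AdicCompletion.evalOneₐ J).toRingHom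
        (AdicCompletion.evalOneₐ_surjective J) N).trans (sup_eq_left.mpr hker)).symm
    rw [h2, Ideal.comap_comap, AdicCompletion.evalOneₐ_comp_algebraMap_eq_mk]
    exact Ideal.comap_isMaximal_of_surjective _ Ideal.Quotient.mk_surjective
  exact Ideal.map_le_iff_le_comap.mpr (IsLocalRing.eq_maximalIdeal hNm).ge

theorem isLocalRing_adicCompletion_localization {A : Type u} [CommRing A] (I : Ideal A) (hI : I.FG)
    (p : Ideal A) [p.IsPrime] (hIp : I ≤ p) :
    IsLocalRing (AdicCompletion (I.map (algebraMap A (Localization.AtPrime p))) (Localization.AtPrime p)) := by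
  refine isLocalRing_adicCompletion _ (hI.map _) ?_
  rw [← Localization.AtPrime.map_eq_maximalIdeal]
  exact Ideal.map_mono hIp

section CompletionModule

variable {R : Type u} [CommRing R] (I : Ideal R) (hI : I.FG)
  {M : Type v} [AddCommGroup M] [Module R M] [UniformSpace M] [IsUniformAddGroup M]
  [UniformContinuousConstSMul R M] (M' : Submodule R M)

open UniformSpace

/-- The closure of the image of a submodule in the completion. -/
def cl (N : Submodule R M) : Submodule R (Completion M) where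
  carrier := closure ((↑) '' (N : Set M))
  zero_mem' := subset_closure ⟨0, zero_mem N, Completion.coe_zero⟩
  add_mem' := fun {x y} hx hy => map_mem_closure₂ continuous_add hx hy
    fun _ ⟨a, ha, ea⟩ _ ⟨b, hb, eb⟩ => ⟨a + b, add_mem ha hb, by rw [Completion.coe_add, ea, eb]⟩
  smul_mem' := fun r x hx => map_mem_closure (continuous_const_smul r) hx
    fun _ ⟨a, ha, ea⟩ => ⟨r • a, N.smul_mem r ha, by rw [Completion.coe_smul, ea]⟩

theorem smul_cl_le (J : Ideal R) (N : Submodule R M) : J • cl N ≤ cl (J • N) :=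
  Submodule.smul_le.mpr fun r hr x hx => map_mem_closure (continuous_const_smul r) hx
    fun _ ⟨a, ha, ea⟩ => ⟨r • a, Submodule.smul_mem_smul hr ha, by rw [Completion.coe_smul, ea]⟩

theorem cl_mono {N N' : Submodule R M} (h : N ≤ N') : cl N ≤ cl N' :=
  fun _ hx => _root_.closure_mono (Set.image_mono h) hx

variable (hopen : ∀ n : ℕ, IsOpen ((I ^ n • M' : Submodule R M) : Set M))
  (hbasis : ∀ U ∈ nhds (0 : M), ∃ n : ℕ, ((I ^ n • M' : Submodule R M) : Set M) ⊆ U)

include hopen in
theorem cl_mem_nhds (n : ℕ) : (cl (I ^ n • M') : Set (Completion M)) ∈ 𝓝 0 := by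
  rw [← Completion.coe_zero]
  exact Completion.isDenseInducing_coe.closure_image_mem_nhds ((hopen n).mem_nhds (zero_mem _))

include hbasis in
theorem exists_cl_subset {U : Set (Completion M)} (hU : U ∈ 𝓝 0) :
    ∃ n, (cl (I ^ n • M') : Set (Completion M)) ⊆ U := by
  obtain ⟨V, hV, hVc, hVU⟩ := exists_mem_nhds_isClosed_subset hU
  obtain ⟨n, hn⟩ := hbasis _ ((Completion.continuous_coe M).continuousAt (x := 0)
    (by rwa [Completion.coe_zero]))
  exact ⟨n, (closure_minimal (Set.image_subset_iff.mpr hn) hVc).trans hVU⟩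

include hopen in
theorem exists_coe_add (n : ℕ) (x : Completion M) : ∃ m : M, x - m ∈ cl (I ^ n • M') := by
  have hn : {z | x - z ∈ cl (I ^ n • M')} ∈ 𝓝 x :=
    (continuous_const.sub continuous_id).continuousAt.preimage_mem_nhds
      (by simpa using cl_mem_nhds I M' hopen n)
  obtain ⟨_, hm, m, rfl⟩ := mem_closure_iff_nhds.mp (Completion.denseRange_coe x) _ hn
  exact ⟨m, hm⟩

include hI hopen hbasis in
theorem cl_pow_smul_le (n : ℕ) : cl (I ^ n • M') ≤ I ^ n • cl M' := by
  classical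
  intro y hy
  obtain ⟨s, hs⟩ := hI.pow (n := n)
  have hstep : ∀ (j : ℕ) (z : cl (I ^ (n + j) • M')), ∃ (c : s → M) (z' : cl (I ^ (n + (j + 1)) • M')),
      (∀ i, c i ∈ I ^ j • M') ∧ (z : Completion M) = (∑ i, (i.1 : R) • (c i : Completion M)) + z' := by
    rintro j ⟨z, hz⟩
    have hn : {w | z - w ∈ cl (I ^ (n + (j + 1)) • M')} ∈ 𝓝 z :=
      (continuous_const.sub continuous_id).continuousAt.preimage_mem_nhds
        (by simpa using cl_mem_nhds I M' hopen (n + (j + 1)))
    obtain ⟨_, hw, a, ha, rfl⟩ := mem_closure_iff_nhds.mp hz _ hn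
    have ha' : a ∈ I ^ j • M' → True := fun _ => trivial
    obtain ⟨c, hc⟩ : ∃ c : s → M, (∀ i, c i ∈ I ^ j • M') ∧ a = ∑ i, (i.1 : R) • c i := by
      have h1 : a ∈ Ideal.span (s : Set R) • (I ^ j • M') := by
        rw [show Ideal.span (s : Set R) = I ^ n from hs, ← Submodule.mul_smul, ← pow_add]; exact ha
      clear ha ha' hw
      refine Submodule.smul_induction_on h1 (fun r hr m hm => ?_) (fun a b ha hb => ?_)
      · obtain ⟨f, -, hf⟩ := Submodule.mem_span_finset.mp hr
        refine ⟨fun i => f i.1 • m, fun i => Submodule.smul_mem _ _ hm, ?_⟩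
        rw [← hf, Finset.sum_smul, ← Finset.sum_coe_sort s]
        exact Finset.sum_congr rfl fun i _ => by rw [smul_eq_mul, mul_comm, mul_smul]
      · obtain ⟨c, hc, rfl⟩ := ha
        obtain ⟨d, hd, rfl⟩ := hb
        exact ⟨c + d, fun i => add_mem (hc i) (hd i), by simp [smul_add, Finset.sum_add_distrib]⟩
    refine ⟨c, ⟨z - a, hw⟩, hc.1, ?_⟩
    have : ((a : M) : Completion M) = ∑ i, (i.1 : R) • (c i : Completion M) := by
      rw [hc.2, ← Completion.toCompl_apply, map_sum]
      exact Finset.sum_congr rfl fun i _ => Completion.coe_smul _ _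
    rw [← this]
    simp
  choose c z' hc hz using hstep
  let z : ∀ j, cl (I ^ (n + j) • M') := fun j =>
    Nat.rec (motive := fun j => cl (I ^ (n + j) • M')) ⟨y, hy⟩ (fun j zj => z' j zj) j
  let V : ℕ → AddSubgroup (Completion M) := fun k => (cl (I ^ k • M')).toAddSubgroup
  have hV : (𝓝 (0 : Completion M)).HasBasis (fun _ => True) (fun k => (V k : Set (Completion M))) :=
    ⟨fun U => ⟨fun hU => (exists_cl_subset I M' hbasis hU).imp fun k hk => ⟨trivial, hk⟩,
      fun ⟨k, _, hk⟩ => Filter.mem_of_superset (cl_mem_nhds I M' hopen k) hk⟩⟩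
  have hanti : Antitone V := fun a b h x hx =>
    cl_mono (Submodule.smul_mono_left (Ideal.pow_le_pow_right h)) hx
  have hsum : ∀ i, Summable fun j => (c j (z j) i : Completion M) := fun i =>
    summable_of_mem_antitone V hV hanti 0 fun j => by
      rw [Nat.zero_add]
      exact subset_closure ⟨_, hc j (z j) i, rfl⟩
  choose S hS using hsum
  have hpart : ∀ N, (∑ j ∈ Finset.range N, ∑ i, (i.1 : R) • (c j (z j) i : Completion M)) + z N = y := by
    intro N
    induction N with
    | zero => simp [z]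
    | succ N ih =>
      rw [Finset.sum_range_succ, add_assoc,
        show (∑ i, (i.1 : R) • (c N (z N) i : Completion M)) + (z (N + 1) : Completion M) = z N from
          (hz N (z N)).symm, ih]
  have hz0 : Tendsto (fun N => (z N : Completion M)) atTop (𝓝 0) :=
    hV.tendsto_right_iff.mpr fun k _ => eventually_atTop.mpr
      ⟨k, fun N hN => hanti (hN.trans (Nat.le_add_left N n)) (z N).2⟩
  have h1 : Tendsto (fun N => ∑ j ∈ Finset.range N, ∑ i, (i.1 : R) • (c j (z j) i : Completion M))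
      atTop (𝓝 y) := by
    have := (tendsto_const_nhds (x := y) (f := atTop)).sub hz0
    rw [sub_zero] at this
    exact this.congr fun N => (eq_sub_of_add_eq (hpart N)).symm
  have h2 : Tendsto (fun N => ∑ j ∈ Finset.range N, ∑ i, (i.1 : R) • (c j (z j) i : Completion M))
      atTop (𝓝 (∑ i : s, (i.1 : R) • S i)) := by
    simp_rw [Finset.sum_comm (s := Finset.range _), ← Finset.smul_sum]
    exact tendsto_finsetSum _ fun i _ => (hS i).tendsto_sum_nat.const_smul _
  rw [tendsto_nhds_unique h1 h2]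
  refine Submodule.sum_mem _ fun i _ => Submodule.smul_mem_smul (hs ▸ Submodule.subset_span i.2) ?_
  exact isClosed_closure.mem_of_tendsto (hS i).tendsto_sum_nat (Eventually.of_forall fun N =>
    Submodule.sum_mem (cl M') fun j _ =>
      cl_mono Submodule.smul_le_right (subset_closure ⟨_, hc j (z j) i, rfl⟩))

include hI hopen hbasis in
theorem completion_isOpen_adic_submodule :
    (∃ M'' : Submodule R (Completion M),
        (∀ n : ℕ, IsOpen ((I ^ n • M'' : Submodule R (Completion M)) : Set (Completion M))) ∧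
        ∀ U ∈ nhds (0 : Completion M), ∃ n : ℕ,
          ((I ^ n • M'' : Submodule R (Completion M)) : Set (Completion M)) ⊆ U) ∧
      ∀ n : ℕ, 0 < n →
        Function.Surjective ((QuotientAddGroup.mk' (I ^ n • ⊤ : Submodule R (Completion M)).toAddSubgroup).comp
          (Completion.toCompl : M →+ Completion M)) ∧
        ((QuotientAddGroup.mk' (I ^ n • ⊤ : Submodule R (Completion M)).toAddSubgroup).comp
          (Completion.toCompl : M →+ Completion M)).ker = (I ^ n • ⊤ : Submodule R M).toAddSubgroup := by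
  have heq : ∀ n, I ^ n • cl M' = cl (I ^ n • M') := fun n =>
    le_antisymm (smul_cl_le _ _) (cl_pow_smul_le I hI M' hopen hbasis n)
  refine ⟨⟨cl M', fun n => ?_, fun U hU => ?_⟩, fun n _ => ⟨fun y => ?_, ?_⟩⟩
  · rw [heq]
    exact AddSubgroup.isOpen_of_mem_nhds (cl (I ^ n • M')).toAddSubgroup (g := 0)
      (cl_mem_nhds I M' hopen n)
  · exact (exists_cl_subset I M' hbasis hU).imp fun n hn => by rwa [heq]
  · obtain ⟨x, rfl⟩ := QuotientAddGroup.mk'_surjective _ y
    obtain ⟨m, hm⟩ := exists_coe_add I M' hopen n x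
    refine ⟨m, (QuotientAddGroup.mk'_eq_mk' _).mpr ⟨x - m, ?_, add_sub_cancel _ _⟩⟩
    rw [← heq] at hm
    exact Submodule.smul_mono le_rfl le_top hm
  · ext m
    rw [AddMonoidHom.mem_ker, AddMonoidHom.comp_apply, QuotientAddGroup.mk'_apply,
      QuotientAddGroup.eq_zero_iff]
    have key : ∀ x ∈ (I ^ n • ⊤ : Submodule R (Completion M)),
        ∃ a ∈ (I ^ n • ⊤ : Submodule R M), x - (a : Completion M) ∈ cl (I ^ n • M') := by
      intro x hx
      refine Submodule.smul_induction_on hx (fun r hr w _ => ?_) (fun a b ha hb => ?_)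
      · obtain ⟨a, ha⟩ := exists_coe_add I M' hopen 0 w
        refine ⟨r • a, Submodule.smul_mem_smul hr trivial, ?_⟩
        rw [Completion.coe_smul, ← smul_sub]
        refine smul_cl_le _ _ (Submodule.smul_mem_smul hr ?_)
        rwa [pow_zero, Ideal.one_eq_top, Submodule.top_smul] at ha
      · obtain ⟨a', ha', haa⟩ := ha
        obtain ⟨b', hb', hbb⟩ := hb
        refine ⟨a' + b', add_mem ha' hb', ?_⟩
        rw [Completion.coe_add, add_sub_add_comm]
        exact add_mem haa hbb
    constructor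
    · intro hm
      obtain ⟨a, ha, hma⟩ := key _ hm
      rw [Completion.toCompl_apply, ← Completion.coe_sub] at hma
      have : m - a ∈ I ^ n • M' := by
        show m - a ∈ ((I ^ n • M' : Submodule R M) : Set M)
        have hc : IsClosed ((I ^ n • M' : Submodule R M) : Set M) :=
          (I ^ n • M').toAddSubgroup.isClosed_of_isOpen (hopen n)
        rw [← hc.closure_eq,
          Completion.isDenseInducing_coe.isInducing.closure_eq_preimage_closure_image]
        exact hma
      have h3 := add_mem (Submodule.smul_mono le_rfl le_top this) ha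
      rwa [sub_add_cancel] at h3
    · intro hm
      show (m : Completion M) ∈ (I ^ n • ⊤ : Submodule R (Completion M))
      suffices h4 : ∀ x ∈ (I ^ n • ⊤ : Submodule R M),
          (x : Completion M) ∈ (I ^ n • ⊤ : Submodule R (Completion M)) from h4 m hm
      intro x hx
      refine Submodule.smul_induction_on hx (fun r hr w _ => ?_) (fun a b ha hb => ?_)
      · rw [Completion.coe_smul]; exact Submodule.smul_mem_smul hr trivial
      · rw [Completion.coe_add]; exact add_mem ha hb

end CompletionModule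

end Groth.Agent.LinTop7
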