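import Mathlib.Topology.Algebra.LinearTopology
import Mathlib.Topology.Algebra.Nonarchimedean.AdicTopology
import Mathlib.Topology.Algebra.TopologicallyNilpotent
import Mathlib.Topology.Algebra.InfiniteSum.Nonarchimedean
import Mathlib.Topology.Algebra.Ring.Ideal
import Mathlib.Topology.Algebra.IsUniformGroup.Basic
import Mathlib.RingTheory.Ideal.Quotient.Nilpotent
import Mathlib.RingTheory.Jacobson.Ideal
import Mathlib.RingTheory.Finiteness.Ideal
import Mathlib.Tactic.LinearCombination
import Groth.Prelude.Def_LinTop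

/-!
# Linearly topologized rings: basic tools
-/

noncomputable section

namespace Groth.Agent.LinTop7

universe u v w

open Topology Filter

section Module

variable {R : Type u} [Ring R] {M : Type v} [AddCommGroup M] [Module R M] [TopologicalSpace M]
  [IsTopologicalAddGroup M]

theorem closure_subset_sup (N U : Submodule R M) (hU : IsOpen (U : Set M)) :
    closure (N : Set M) ⊆ ((N ⊔ U : Submodule R M) : Set M) := by
  have ho : IsOpen ((N ⊔ U : Submodule R M) : Set M) :=
    AddSubgroup.isOpen_mono (H₁ := U.toAddSubgroup) (H₂ := (N ⊔ U).toAddSubgroup)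
      (fun x hx => Submodule.mem_sup_right hx) hU
  exact closure_minimal (fun x hx => Submodule.mem_sup_left hx)
    ((N ⊔ U).toAddSubgroup.isClosed_of_isOpen ho)

theorem closure_eq_iInter_sup {ι : Type w} (B : ι → Submodule R M)
    (hB : (𝓝 (0 : M)).HasBasis (fun _ => True) (fun i => (B i : Set M))) (N : Submodule R M) :
    closure (N : Set M) = ⋂ i, ((N ⊔ B i : Submodule R M) : Set M) := by
  refine Set.Subset.antisymm (Set.subset_iInter fun i => ?_) fun x hx => ?_
  · refine closure_subset_sup N (B i) ?_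
    exact AddSubgroup.isOpen_of_mem_nhds (B i).toAddSubgroup (hB.mem_of_mem (i := i) trivial)
  · rw [mem_closure_iff_nhds]
    intro V hV
    have hV0 : (fun y => x + y) ⁻¹' V ∈ 𝓝 (0 : M) :=
      (continuous_const_add x).continuousAt.preimage_mem_nhds (by simpa using hV)
    obtain ⟨i, -, hi⟩ := hB.mem_iff.mp hV0
    obtain ⟨n, hn, b, hb, hnb⟩ := Submodule.mem_sup.mp (Set.mem_iInter.mp hx i)
    refine ⟨n, ?_, hn⟩
    have : -b ∈ B i := neg_mem hb
    simpa [← hnb] using hi this

end Module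

variable {A : Type u} [CommRing A] [TopologicalSpace A]

theorem hasBasis_open_ideal (A : Type u) [CommRing A] [TopologicalSpace A] [ContinuousAdd A]
    [IsLinearTopology A A] :
    (𝓝 (0 : A)).HasBasis (fun I : Ideal A => IsOpen (I : Set A)) (fun I => (I : Set A)) :=
  IsLinearTopology.hasBasis_open_submodule A

theorem mem_nhds_of_isOpen {I : Ideal A} (hI : IsOpen (I : Set A)) : (I : Set A) ∈ 𝓝 (0 : A) :=
  hI.mem_nhds (zero_mem I)

section Ring

variable [IsTopologicalRing A]

theorem isOpen_of_le {I J : Ideal A} (h : I ≤ J) (hI : IsOpen (I : Set A)) : IsOpen (J : Set A) :=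
  AddSubgroup.isOpen_mono (H₁ := I.toAddSubgroup) (H₂ := J.toAddSubgroup) h hI

theorem isClosed_of_isOpen {I : Ideal A} (hI : IsOpen (I : Set A)) : IsClosed (I : Set A) :=
  I.toAddSubgroup.isClosed_of_isOpen hI

theorem le_closure (I : Ideal A) : I ≤ I.closure := fun _ hx => subset_closure hx

theorem closure_le {I U : Ideal A} (hU : IsOpen (U : Set A)) (h : I ≤ U) : I.closure ≤ U :=
  fun _ hx => closure_minimal h (isClosed_of_isOpen hU) hx

theorem closure_mono {I J : Ideal A} (h : I ≤ J) : I.closure ≤ J.closure :=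
  fun _ hx => _root_.closure_mono h hx

theorem closure_closure (I : Ideal A) : I.closure.closure = I.closure :=
  SetLike.ext' isClosed_closure.closure_eq

theorem closure_mul_le (I J : Ideal A) : I.closure * J.closure ≤ (I * J).closure := by
  refine Ideal.mul_le.mpr fun a ha b hb => ?_
  exact map_mem_closure₂ continuous_mul ha hb fun x hx y hy => Ideal.mul_mem_mul hx hy

theorem closure_pow_le (I : Ideal A) (n : ℕ) : I.closure ^ n ≤ (I ^ n).closure := by
  induction n with
  | zero => simpa using le_closure (⊤ : Ideal A)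
  | succ n ih =>
    rw [pow_succ, pow_succ]
    exact (Ideal.mul_mono ih le_rfl).trans (closure_mul_le _ _)

end Ring

theorem pow_le_of_isIdealOfDefinition {I U : Ideal A} (hI : LinTop.IsIdealOfDefinition A I)
    (hU : IsOpen (U : Set A)) : ∃ n, 0 < n ∧ I ^ n ≤ U :=
  hI.2 _ (mem_nhds_of_isOpen hU)

theorem idealOfDefinition_le_of_isPrime {I p : Ideal A} [p.IsPrime] (hp : IsOpen (p : Set A))
    (hI : LinTop.IsIdealOfDefinition A I) : I ≤ p := by
  obtain ⟨n, -, hn⟩ := pow_le_of_isIdealOfDefinition hI hp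
  exact ‹p.IsPrime›.le_of_pow_le hn

theorem isTopologicallyNilpotent_of_pow_mem [IsTopologicalRing A] {I : Ideal A}
    (hI : LinTop.IsIdealOfDefinition A I) {x : A} {n : ℕ} (hn : x ^ n ∈ I) :
    IsTopologicallyNilpotent x := by
  intro U hU
  obtain ⟨k, -, hk⟩ := hI.2 U hU
  rw [mem_map]
  refine mem_atTop_sets.mpr ⟨n * k, fun m hm => hk ?_⟩
  show x ^ m ∈ I ^ k
  rw [← Nat.add_sub_cancel' hm, pow_add, pow_mul]
  exact Ideal.mul_mem_right _ _ (Ideal.pow_mem_pow hn k)

theorem exists_pow_mem {U : Ideal A} (hU : IsOpen (U : Set A)) {x : A}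
    (hx : IsTopologicallyNilpotent x) : ∃ n, 0 < n ∧ x ^ n ∈ U := by
  obtain ⟨n, hn⟩ := mem_atTop_sets.mp (hx (mem_nhds_of_isOpen hU))
  exact ⟨n + 1, n.succ_pos, hn (n + 1) n.le_succ⟩

theorem isTopologicallyNilpotent_iff_nilpotent_mk [IsTopologicalRing A] {I : Ideal A}
    (hI : LinTop.IsIdealOfDefinition A I) (x : A) :
    IsTopologicallyNilpotent x ↔ IsNilpotent (Ideal.Quotient.mk I x) := by
  constructor
  · intro h
    obtain ⟨n, -, hn⟩ := exists_pow_mem hI.1 h
    exact ⟨n, by rw [← map_pow]; exact Ideal.Quotient.eq_zero_iff_mem.mpr hn⟩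
  · rintro ⟨n, hn⟩
    rw [← map_pow, Ideal.Quotient.eq_zero_iff_mem] at hn
    exact isTopologicallyNilpotent_of_pow_mem hI hn

theorem isTopologicallyNilpotent_of_mem [IsTopologicalRing A] {I : Ideal A}
    (hI : LinTop.IsIdealOfDefinition A I) {x : A} (hx : x ∈ I) : IsTopologicallyNilpotent x :=
  isTopologicallyNilpotent_of_pow_mem hI (n := 1) (by rwa [pow_one])

theorem isTopologicallyNilpotent_iff_forall [IsTopologicalRing A] [IsLinearTopology A A] (x : A) :
    IsTopologicallyNilpotent x ↔ ∀ U : Ideal A, IsOpen (U : Set A) → ∃ n, x ^ n ∈ U := by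
  refine ⟨fun h U hU => (exists_pow_mem hU h).imp fun n hn => hn.2, fun h => ?_⟩
  refine (hasBasis_open_ideal A).tendsto_right_iff.mpr fun U hU => ?_
  obtain ⟨n, hn⟩ := h U hU
  exact eventually_atTop.mpr ⟨n, fun m hm => Ideal.pow_mem_of_pow_mem _ hn hm⟩

theorem topologicalNilradical_isClosed [IsTopologicalRing A] [IsLinearTopology A A] :
    IsClosed ((topologicalNilradical A : Ideal A) : Set A) := by
  refine isClosed_of_closure_subset fun x hx => ?_
  rw [SetLike.mem_coe, IsTopologicallyNilpotent.mem_topologicalNilradical_iff, isTopologicallyNilpotent_iff_forall]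
  intro U hU
  obtain ⟨y, hy, u, hu, rfl⟩ := Submodule.mem_sup.mp (closure_subset_sup _ U hU hx)
  obtain ⟨n, hn⟩ := (isTopologicallyNilpotent_iff_forall y).mp
    (IsTopologicallyNilpotent.mem_topologicalNilradical_iff.mp hy) U hU
  refine ⟨n, Ideal.Quotient.eq_zero_iff_mem.mp ?_⟩
  rw [map_pow, map_add, Ideal.Quotient.eq_zero_iff_mem.mpr hu, add_zero, ← map_pow,
    Ideal.Quotient.eq_zero_iff_mem.mpr hn]

theorem isTopologicallyNilpotent_of_mem_closure {B : Type v} [CommRing B] [TopologicalSpace B]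
    [IsTopologicalRing B] [IsLinearTopology B B] [IsTopologicalRing A] (φ : A →+* B)
    (hφ : Continuous φ) (I : Ideal A) (hI : ∀ f ∈ I, IsTopologicallyNilpotent f) :
    ∀ g ∈ (I.map φ).closure, IsTopologicallyNilpotent g := by
  intro g hg
  rw [← IsTopologicallyNilpotent.mem_topologicalNilradical_iff]
  refine closure_minimal ?_ topologicalNilradical_isClosed hg
  exact Ideal.map_le_iff_le_comap.mpr fun f hf =>
    IsTopologicallyNilpotent.mem_topologicalNilradical_iff.mpr ((hI f hf).map hφ)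

section Unit

variable [IsTopologicalRing A] [IsLinearTopology A A]

theorem nonarchimedeanRing : NonarchimedeanRing A where
  is_nonarchimedean U hU := by
    obtain ⟨I, hI, hIU⟩ := (hasBasis_open_ideal A).mem_iff.mp hU
    exact ⟨⟨I.toAddSubgroup, hI⟩, hIU⟩

end Unit

section Complete

variable {A : Type u} [CommRing A] [UniformSpace A] [IsUniformAddGroup A] [IsTopologicalRing A]
  [IsLinearTopology A A] [T2Space A] [CompleteSpace A]

omit [T2Space A] in
theorem summable_of_tendsto {c : ℕ → A} (h : ∀ U : Ideal A, IsOpen (U : Set A) → ∃ N, ∀ k, N ≤ k → c k ∈ U) :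
    Summable c := by
  have := nonarchimedeanRing (A := A)
  refine NonarchimedeanAddGroup.summable_of_tendsto_cofinite_zero ?_
  rw [Nat.cofinite_eq_atTop]
  refine (hasBasis_open_ideal A).tendsto_right_iff.mpr fun U hU => ?_
  exact eventually_atTop.mpr (h U hU)

theorem isUnit_one_add {x : A} (hx : IsTopologicallyNilpotent x) : IsUnit (1 + x) := by
  have hs : Summable fun k => (-x) ^ k := summable_of_tendsto fun U hU => by
    obtain ⟨n, -, hn⟩ := exists_pow_mem hU hx
    refine ⟨n, fun k hk => ?_⟩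
    rw [neg_pow]
    exact U.mul_mem_left _ (Ideal.pow_mem_of_pow_mem _ hn hk)
  refine .of_mul_eq_one (∑' k, (-x) ^ k) ?_
  have h := hs.tsum_eq_zero_add
  have h2 : ∑' k, (-x) ^ (k + 1) = (-x) * ∑' k, (-x) ^ k := by
    rw [← hs.tsum_mul_left]
    exact tsum_congr fun k => pow_succ' _ _
  rw [h2, pow_zero] at h
  linear_combination h

theorem le_jacobson_of_forall_isTopologicallyNilpotent {I : Ideal A}
    (h : ∀ x ∈ I, IsTopologicallyNilpotent x) : I ≤ (⊥ : Ideal A).jacobson := fun x hx =>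
  Ideal.mem_jacobson_bot.mpr fun y => by
    rw [add_comm]
    exact isUnit_one_add (h _ (I.mul_mem_right y hx))

/-- The successive approximation lemma: if `K` is a decreasing family of ideals with
`K k ≤ J ^ k ⊔ K (k+1)` from `n` on, both tending to zero, then `K n ≤ J ^ n`. -/
theorem le_pow_of_le_pow_sup (J : Ideal A) (hJ : J.FG) (K : ℕ → Ideal A)
    (hJ0 : ∀ U : Ideal A, IsOpen (U : Set A) → ∃ k, J ^ k ≤ U)
    (hK0 : ∀ U : Ideal A, IsOpen (U : Set A) → ∃ k, ∀ m, k ≤ m → K m ≤ U)
    (n : ℕ) (h : ∀ k, n ≤ k → K k ≤ J ^ k ⊔ K (k + 1)) : K n ≤ J ^ n := by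
  classical
  intro x hx
  obtain ⟨s, hs⟩ := hJ.pow (n := n)
  have hstep : ∀ (j : ℕ) (y : K (n + j)), ∃ (c : s → A) (z : K (n + (j + 1))),
      (∀ i, c i ∈ J ^ j) ∧ (y : A) = (∑ i, c i * i.1) + z := by
    intro j y
    obtain ⟨a, ha, z, hz, haz⟩ := Submodule.mem_sup.mp (h (n + j) (Nat.le_add_right _ _) y.2)
    have ha' : a ∈ J ^ j • Ideal.span (Set.range ((↑) : s → A)) := by
      rw [Subtype.range_coe_subtype]
      rw [Ideal.smul_eq_mul, show Ideal.span ({x | x ∈ s} : Set A) = J ^ n from hs, ← pow_add, add_comm]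
      exact ha
    obtain ⟨c, hc, hca⟩ := (Submodule.mem_ideal_smul_span_iff_exists_sum _ _ _).mp ha'
    refine ⟨fun i => c i, ⟨z, hz⟩, hc, ?_⟩
    rw [← haz, ← hca, Finsupp.sum_fintype _ _ (fun i => by simp)]
    simp [smul_eq_mul]
  choose c z hc hz using hstep
  let y : ∀ j, K (n + j) := fun j => Nat.rec (motive := fun j => K (n + j)) ⟨x, hx⟩ (fun j yj => z j yj) j
  have hy : ∀ j, (y j : A) = (∑ i, c j (y j) i * i.1) + y (j + 1) := fun j => hz j (y j)
  have hsum : ∀ i, Summable fun j => c j (y j) i := fun i => summable_of_tendsto fun U hU => by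
    obtain ⟨k, hk⟩ := hJ0 U hU
    exact ⟨k, fun j hj => hk (Ideal.pow_le_pow_right hj (hc j _ i))⟩
  have hpart : ∀ N, (∑ j ∈ Finset.range N, ∑ i, c j (y j) i * i.1) + y N = x := by
    intro N
    induction N with
    | zero => simp [y]
    | succ N ih => rw [Finset.sum_range_succ, add_assoc, ← hy N, ih]
  have hy0 : Tendsto (fun N => (y N : A)) atTop (𝓝 0) := by
    refine (hasBasis_open_ideal A).tendsto_right_iff.mpr fun U hU => ?_
    obtain ⟨k, hk⟩ := hK0 U hU
    exact eventually_atTop.mpr ⟨k, fun N hN => hk (n + N) (hN.trans (Nat.le_add_left _ _)) (y N).2⟩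
  have h1 : Tendsto (fun N => ∑ j ∈ Finset.range N, ∑ i, c j (y j) i * i.1) atTop (𝓝 x) := by
    have := (tendsto_const_nhds (x := x) (f := atTop)).sub hy0
    rw [sub_zero] at this
    exact this.congr fun N => (eq_sub_of_add_eq (hpart N)).symm
  have h2 : Tendsto (fun N => ∑ j ∈ Finset.range N, ∑ i, c j (y j) i * i.1) atTop
      (𝓝 (∑ i : s, (∑' j, c j (y j) i) * i.1)) := by
    simp_rw [Finset.sum_comm (s := Finset.range _), ← Finset.sum_mul]
    exact tendsto_finsetSum _ fun i _ => ((hsum i).hasSum.tendsto_sum_nat).mul_const _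
  rw [tendsto_nhds_unique h1 h2]
  exact Submodule.sum_mem _ fun i _ => Ideal.mul_mem_left _ _ (hs ▸ Submodule.subset_span i.2)

end Complete

end Groth.Agent.LinTop7
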