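import Groth.Agent.LinTop7.Basic
import Mathlib.RingTheory.Ideal.Quotient.Operations
import Mathlib.RingTheory.Nakayama
import Mathlib.RingTheory.AdicCompletion.Basic
import Mathlib.RingTheory.Henselian
import Mathlib.LinearAlgebra.TensorProduct.Quotient
import Mathlib.RingTheory.Noetherian.Nilpotent
import Mathlib.RingTheory.Noetherian.Basic
import Groth.Prelude.Def_W4stk3formalspacesTaut

/-!
# Ideals of definition, admissible rings
-/

noncomputable section

namespace Groth.Agent.LinTop7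

universe u v

open Topology Filter TensorProduct

section Def

variable {A : Type u} [CommRing A] [TopologicalSpace A] [IsTopologicalRing A] {I : Ideal A}

theorem isIdealOfDefinition_of_pow_le (hI : LinTop.IsIdealOfDefinition A I) {J : Ideal A}
    (hJ : IsOpen (J : Set A)) {n : ℕ} (hn : 0 < n) (h : J ^ n ≤ I) :
    LinTop.IsIdealOfDefinition A J := by
  refine ⟨hJ, fun U hU => ?_⟩
  obtain ⟨k, hk, hkU⟩ := hI.2 U hU
  exact ⟨n * k, Nat.mul_pos hn hk, fun x hx => hkU (Ideal.pow_right_mono h k (pow_mul J n k ▸ hx))⟩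

theorem exists_idealOfDefinition_ge_iff (hI : LinTop.IsIdealOfDefinition A I) (I' : Ideal A) :
    (∃ J : Ideal A, LinTop.IsIdealOfDefinition A J ∧ I' ≤ J) ↔ ∃ n : ℕ, 0 < n ∧ I' ^ n ≤ I := by
  constructor
  · rintro ⟨J, hJ, hle⟩
    obtain ⟨n, hn, hnI⟩ := pow_le_of_isIdealOfDefinition hJ hI.1
    exact ⟨n, hn, (Ideal.pow_right_mono hle n).trans hnI⟩
  · rintro ⟨n, hn, h⟩
    refine ⟨I ⊔ I', isIdealOfDefinition_of_pow_le hI (isOpen_of_le le_sup_left hI.1) hn ?_, le_sup_right⟩
    conv_lhs => rw [← Nat.succ_pred_eq_of_pos hn]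
    rw [Nat.succ_eq_add_one]
    refine le_trans ?_ (sup_le le_rfl h)
    conv_rhs => rw [← Nat.succ_pred_eq_of_pos hn]
    induction n.pred with
    | zero => simp
    | succ m ih =>
      rw [pow_succ, pow_succ I' (m + 1)]
      refine (Ideal.mul_mono_left ih).trans ?_
      rw [Ideal.sup_mul, Ideal.mul_sup, Ideal.mul_sup]
      repeat' refine sup_le ?_ ?_
      all_goals first
        | exact le_sup_right
        | exact le_sup_of_le_left Ideal.mul_le_left
        | exact le_sup_of_le_left Ideal.mul_le_right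

theorem isTopologicallyNilpotent_mem_exists (hI : LinTop.IsIdealOfDefinition A I) {x : A}
    (hx : IsTopologicallyNilpotent x) : ∃ J : Ideal A, LinTop.IsIdealOfDefinition A J ∧ x ∈ J := by
  obtain ⟨n, hn, hnI⟩ := exists_pow_mem hI.1 hx
  obtain ⟨J, hJ, hle⟩ := (exists_idealOfDefinition_ge_iff hI (Ideal.span {x})).mpr ⟨n, hn, by
    rw [Ideal.span_singleton_pow]; exact (Ideal.span_singleton_le_iff_mem _).mpr hnI⟩
  exact ⟨J, hJ, hle (Ideal.mem_span_singleton_self x)⟩

theorem largest_iff_isReduced {I₀ : Ideal A} (hI₀ : LinTop.IsIdealOfDefinition A I₀) :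
    (∀ J : Ideal A, LinTop.IsIdealOfDefinition A J → J ≤ I₀) ↔ IsReduced (A ⧸ I₀) := by
  constructor
  · refine fun h => ⟨fun z hz => ?_⟩
    obtain ⟨x, rfl⟩ := Ideal.Quotient.mk_surjective z
    obtain ⟨J, hJ, hxJ⟩ := isTopologicallyNilpotent_mem_exists hI₀
      ((isTopologicallyNilpotent_iff_nilpotent_mk hI₀ x).mpr hz)
    exact Ideal.Quotient.eq_zero_iff_mem.mpr (h J hJ hxJ)
  · intro h J hJ x hx
    exact Ideal.Quotient.eq_zero_iff_mem.mp
      ((isTopologicallyNilpotent_iff_nilpotent_mk hI₀ x).mp (isTopologicallyNilpotent_of_mem hJ hx)).eq_zero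

variable [IsLinearTopology A A]

theorem topologicalNilradical_eq_comap (hI : LinTop.IsIdealOfDefinition A I) :
    (topologicalNilradical A : Ideal A) = (nilradical (A ⧸ I)).comap (Ideal.Quotient.mk I) := by
  ext x
  rw [IsTopologicallyNilpotent.mem_topologicalNilradical_iff,
    isTopologicallyNilpotent_iff_nilpotent_mk hI, Ideal.mem_comap, mem_nilradical]

theorem le_topologicalNilradical (hI : LinTop.IsIdealOfDefinition A I) :
    I ≤ (topologicalNilradical A : Ideal A) := fun _ hx =>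
  IsTopologicallyNilpotent.mem_topologicalNilradical_iff.mpr (isTopologicallyNilpotent_of_mem hI hx)

theorem exists_largest_iff (hI : LinTop.IsIdealOfDefinition A I) :
    ((∃ I₀ : Ideal A, LinTop.IsIdealOfDefinition A I₀ ∧ ∀ J : Ideal A, LinTop.IsIdealOfDefinition A J → J ≤ I₀) ↔
        IsNilpotent (nilradical (A ⧸ I))) ∧
      ∀ I₀ : Ideal A, LinTop.IsIdealOfDefinition A I₀ → (∀ J : Ideal A, LinTop.IsIdealOfDefinition A J → J ≤ I₀) →
        I₀ = topologicalNilradical A := by
  have heq : ∀ I₀ : Ideal A, LinTop.IsIdealOfDefinition A I₀ →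
      (∀ J : Ideal A, LinTop.IsIdealOfDefinition A J → J ≤ I₀) → I₀ = topologicalNilradical A := by
    intro I₀ h₀ hmax
    refine le_antisymm (le_topologicalNilradical h₀) fun x hx => ?_
    obtain ⟨J, hJ, hxJ⟩ := isTopologicallyNilpotent_mem_exists hI
      (IsTopologicallyNilpotent.mem_topologicalNilradical_iff.mp hx)
    exact hmax J hJ hxJ
  have hmap : (nilradical (A ⧸ I)) = (topologicalNilradical A : Ideal A).map (Ideal.Quotient.mk I) := by
    rw [topologicalNilradical_eq_comap hI,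
      Ideal.map_comap_of_surjective _ Ideal.Quotient.mk_surjective]
  refine ⟨⟨?_, ?_⟩, heq⟩
  · rintro ⟨I₀, h₀, hmax⟩
    obtain ⟨n, -, hn⟩ := pow_le_of_isIdealOfDefinition h₀ hI.1
    refine ⟨n, ?_⟩
    rw [hmap, ← heq I₀ h₀ hmax, ← Ideal.map_pow, Ideal.zero_eq_bot, ← le_bot_iff]
    exact (Ideal.map_mono hn).trans (Ideal.map_quotient_self I).le
  · rintro ⟨n, hn⟩
    have h : (topologicalNilradical A : Ideal A) ^ (n + 1) ≤ I := by
      refine (Ideal.pow_le_pow_right n.le_succ).trans ?_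
      have h2 : ((topologicalNilradical A : Ideal A) ^ n).map (Ideal.Quotient.mk I) = ⊥ := by
        rw [Ideal.map_pow, ← hmap, hn, Ideal.zero_eq_bot]
      exact ((Ideal.map_eq_bot_iff_le_ker _).mp h2).trans Ideal.mk_ker.le
    exact ⟨_, isIdealOfDefinition_of_pow_le hI (isOpen_of_le (le_topologicalNilradical hI) hI.1)
      n.succ_pos h, fun J hJ => le_topologicalNilradical hJ⟩

theorem exists_largest_of_noetherian [IsNoetherianRing A] (hI : LinTop.IsIdealOfDefinition A I) :
    ∃ I₀ : Ideal A, LinTop.IsIdealOfDefinition A I₀ ∧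
      ∀ J : Ideal A, LinTop.IsIdealOfDefinition A J → J ≤ I₀ :=
  have : IsNoetherianRing (A ⧸ I) :=
    isNoetherianRing_of_surjective A (A ⧸ I) (Ideal.Quotient.mk I) Ideal.Quotient.mk_surjective
  (exists_largest_iff hI).1.mpr (IsNoetherianRing.isNilpotent_nilradical _)

end Def

section Adic

variable {A : Type u} [CommRing A] [TopologicalSpace A] [IsTopologicalRing A]

theorem isAdic_of_isIdealOfDefinition (hA : LinTop.IsPreadic A) {I' : Ideal A}
    (hI' : LinTop.IsIdealOfDefinition A I') : IsAdic I' := by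
  obtain ⟨I, hI⟩ := hA
  rw [isAdic_iff]
  refine ⟨fun n => ?_, fun U hU => (hI'.2 U hU).imp fun n hn => hn.2⟩
  obtain ⟨h1, h2⟩ := isAdic_iff.mp hI
  obtain ⟨m, hm⟩ := h2 _ (mem_nhds_of_isOpen hI'.1)
  exact isOpen_of_le (show I ^ (m * n) ≤ I' ^ n from pow_mul I m n ▸ Ideal.pow_right_mono hm n) (h1 _)

theorem isIdealOfDefinition_of_isAdic {I : Ideal A} (hI : IsAdic I) :
    LinTop.IsIdealOfDefinition A I := by
  obtain ⟨h1, h2⟩ := isAdic_iff.mp hI
  refine ⟨by simpa using h1 1, fun U hU => ?_⟩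
  obtain ⟨n, hn⟩ := h2 U hU
  exact ⟨n + 1, n.succ_pos, fun x hx => hn (Ideal.pow_le_pow_right n.le_succ hx)⟩

theorem isLinearTopology_of_isAdic {I : Ideal A} (hI : IsAdic I) : IsLinearTopology A A :=
  IsLinearTopology.mk_of_hasBasis A hI.hasBasis_nhds_zero

end Adic

section Admissible

variable {A : Type u} [CommRing A] [UniformSpace A] [IsUniformAddGroup A] [IsTopologicalRing A]

theorem le_jacobson (hA : LinTop.IsAdmissible A) {I : Ideal A}
    (hI : LinTop.IsIdealOfDefinition A I) : I ≤ (⊥ : Ideal A).jacobson := by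
  obtain ⟨⟨_, _⟩, _, _⟩ := hA
  exact le_jacobson_of_forall_isTopologicallyNilpotent fun x hx => isTopologicallyNilpotent_of_mem hI hx

theorem isUnit_one_add_of_mem (hA : LinTop.IsAdmissible A) {I : Ideal A}
    (hI : LinTop.IsIdealOfDefinition A I) : ∀ x ∈ I, IsUnit (1 + x) := fun x hx => by
  obtain ⟨⟨_, _⟩, _, _⟩ := hA
  exact isUnit_one_add (isTopologicallyNilpotent_of_mem hI hx)

theorem isUnit_iff_isUnit_mk (hA : LinTop.IsAdmissible A) {J : Ideal A}
    (hJ : LinTop.IsIdealOfDefinition A J) (f : A) : IsUnit f ↔ IsUnit (Ideal.Quotient.mk J f) := by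
  have := isLocalHom_of_le_jacobson_bot J (le_jacobson hA hJ)
  exact ⟨fun h => h.map _, fun h => IsUnit.of_map (Ideal.Quotient.mk J) f h⟩

omit [UniformSpace A] [IsUniformAddGroup A] [IsTopologicalRing A] in
theorem surjective_iff_rTensor {J : Ideal A} (hJ : J ≤ (⊥ : Ideal A).jacobson)
    {M N : Type u} [AddCommGroup M] [Module A M] [AddCommGroup N] [Module A N] [Module.Finite A N]
    (u : M →ₗ[A] N) : Function.Surjective u ↔ Function.Surjective (u.rTensor (A ⧸ J)) := by
  refine ⟨LinearMap.rTensor_surjective _, fun h => ?_⟩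
  refine LinearMap.range_eq_top.mp (eq_top_iff.mpr (Submodule.le_of_le_smul_of_le_jacobson_bot
    Module.Finite.fg_top hJ fun y _ => ?_))
  obtain ⟨z, hz⟩ := h (y ⊗ₜ 1)
  have hM : ∀ z : M ⊗[A] (A ⧸ J), ∃ x, x ⊗ₜ[A] (1 : A ⧸ J) = z := by
    intro z
    induction z using TensorProduct.induction_on with
    | zero => exact ⟨0, zero_tmul _ _⟩
    | tmul x a =>
      obtain ⟨a, rfl⟩ := Ideal.Quotient.mk_surjective a
      exact ⟨a • x, by rw [smul_tmul, Algebra.smul_def, mul_one]; rfl⟩
    | add a b ha hb =>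
      obtain ⟨x, rfl⟩ := ha
      obtain ⟨x', rfl⟩ := hb
      exact ⟨x + x', add_tmul _ _ _⟩
  obtain ⟨x, rfl⟩ := hM z
  rw [LinearMap.rTensor_tmul] at hz
  have h0 := congrArg (TensorProduct.tensorQuotEquivQuotSMul N J) hz
  rw [show (1 : A ⧸ J) = Ideal.Quotient.mk J 1 from rfl,
    TensorProduct.tensorQuotEquivQuotSMul_tmul_mk, TensorProduct.tensorQuotEquivQuotSMul_tmul_mk,
    one_smul, one_smul, Submodule.Quotient.eq] at h0
  exact Submodule.mem_sup.mpr ⟨u x, ⟨x, rfl⟩, -(u x - y), neg_mem h0, by abel⟩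

end Admissible

section Complete

variable {A : Type u} [CommRing A] [UniformSpace A] [IsUniformAddGroup A] [IsTopologicalRing A]
  [IsLinearTopology A A] [T2Space A] [CompleteSpace A]

theorem isAdicComplete_of_fg (I : Ideal A) (hI : I.FG)
    (h0 : ∀ U : Ideal A, IsOpen (U : Set A) → ∃ k, I ^ k ≤ U) : IsAdicComplete I A := by
  have hH : IsHausdorff I A := ⟨fun x hx => by
    by_contra hne
    obtain ⟨U, hU, hxU⟩ := (hasBasis_open_ideal A).mem_iff.mp (compl_singleton_mem_nhds (Ne.symm hne))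
    obtain ⟨k, hk⟩ := h0 U hU
    have := hx k
    rw [SModEq.zero, smul_eq_mul, Ideal.mul_top] at this
    exact hxU (hk this) rfl⟩
  have hP : IsPrecomplete I A := ⟨fun f hf => by
    have hf' : ∀ m n, m ≤ n → f m - f n ∈ I ^ m := fun m n h => by
      have := hf h
      rwa [SModEq.sub_mem, smul_eq_mul, Ideal.mul_top] at this
    have hsum : Summable fun k => f (k + 1) - f k := summable_of_tendsto fun U hU => by
      obtain ⟨k, hk⟩ := h0 U hU
      exact ⟨k, fun j hj => by
        rw [← neg_sub]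
        exact neg_mem (hk (Ideal.pow_le_pow_right hj (hf' j (j + 1) j.le_succ)))⟩
    obtain ⟨S, hS⟩ := hsum
    have hlim : Tendsto f atTop (𝓝 (S + f 0)) := by
      refine (hS.tendsto_sum_nat.add_const (f 0)).congr fun N => ?_
      rw [Finset.sum_range_sub]
      abel
    refine ⟨S + f 0, fun n => ?_⟩
    rw [SModEq.sub_mem, smul_eq_mul, Ideal.mul_top]
    have key := le_pow_of_le_pow_sup I hI (fun k => Ideal.span {f k - (S + f 0)}) h0
      (fun U hU => by
        obtain ⟨N, hN⟩ := eventually_atTop.mp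
          ((tendsto_sub_nhds_zero_iff.mpr hlim).eventually_mem (mem_nhds_of_isOpen hU))
        exact ⟨N, fun m hm => (Ideal.span_singleton_le_iff_mem _).mpr (hN m hm)⟩)
      n (fun k _ => (Ideal.span_singleton_le_iff_mem _).mpr (Submodule.mem_sup.mpr
        ⟨f k - f (k + 1), hf' k (k + 1) k.le_succ, f (k + 1) - (S + f 0),
          Ideal.mem_span_singleton_self _, by abel⟩))
    exact key (Ideal.mem_span_singleton_self _)⟩
  exact { hH, hP with }

theorem henselianRing_of_forall_isTopologicallyNilpotent (I : Ideal A)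
    (hI : ∀ x ∈ I, IsTopologicallyNilpotent x) : HenselianRing A I where
  jac := le_jacobson_of_forall_isTopologicallyNilpotent hI
  is_henselian := fun f hf a₀ h₁ h₂ => by
    let y := f.eval a₀
    have hle : Ideal.span {y} ≤ I := (Ideal.span_singleton_le_iff_mem _).mpr h₁
    have : IsAdicComplete (Ideal.span {y}) A := isAdicComplete_of_fg _ ⟨{y}, by simp⟩ fun U hU => by
      obtain ⟨n, -, hn⟩ := exists_pow_mem hU (hI y h₁)
      exact ⟨n, by rw [Ideal.span_singleton_pow]; exact (Ideal.span_singleton_le_iff_mem _).mpr hn⟩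
    have := isLocalHom_of_le_jacobson_bot I (le_jacobson_of_forall_isTopologicallyNilpotent hI)
    obtain ⟨a, ha, ha'⟩ := HenselianRing.is_henselian (I := Ideal.span {y}) f hf a₀
      (Ideal.mem_span_singleton_self y) ((IsUnit.of_map (Ideal.Quotient.mk I) _ h₂).map _)
    exact ⟨a, ha, hle ha'⟩

end Complete

end Groth.Agent.LinTop7
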