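import Groth.Agent.LinTop7.Taut
import Mathlib.Topology.Algebra.GroupCompletion
import Mathlib.Topology.Algebra.Group.Quotient
import Mathlib.Topology.UniformSpace.Cauchy

/-!
# Open mapping for complete metrisable linearly topologised groups
-/

noncomputable section

namespace Groth.Agent.LinTop7

universe u v

open Topology Filter LinTop

section

variable {G : Type u} [AddCommGroup G] [UniformSpace G] [IsUniformAddGroup G] [CompleteSpace G]

theorem summable_of_mem_antitone (V : ℕ → AddSubgroup G) (hV : (𝓝 (0 : G)).HasBasis (fun _ => True) (fun n => (V n : Set G)))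
    (hanti : Antitone V) {c : ℕ → G} (n : ℕ) (hc : ∀ j, c j ∈ V (n + j)) : Summable c := by
  have : NonarchimedeanAddGroup G := ⟨fun U hU => by
    obtain ⟨k, -, hk⟩ := hV.mem_iff.mp hU
    exact ⟨⟨V k, (V k).isOpen_of_mem_nhds (hV.mem_of_mem trivial)⟩, hk⟩⟩
  refine NonarchimedeanAddGroup.summable_of_tendsto_cofinite_zero ?_
  rw [Nat.cofinite_eq_atTop]
  refine hV.tendsto_right_iff.mpr fun k _ => eventually_atTop.mpr ⟨k, fun j hj => ?_⟩
  exact hanti (hj.trans (Nat.le_add_left j n)) (hc j)

/-- Successive approximation: closures of images are images. -/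
theorem closure_image_subset {H : Type v} [AddCommGroup H] [TopologicalSpace H]
    [IsTopologicalAddGroup H] [T2Space H] (f : G →+ H) (hf : Continuous f) (V : ℕ → AddSubgroup G)
    (hV : (𝓝 (0 : G)).HasBasis (fun _ => True) (fun n => (V n : Set G))) (hanti : Antitone V)
    (hopen : ∀ n, closure (f '' (V n : Set G)) ∈ 𝓝 (0 : H))
    (hsmall : ∀ U ∈ 𝓝 (0 : H), ∃ n, closure (f '' (V n : Set G)) ⊆ U) (n : ℕ) :
    closure (f '' (V n : Set G)) ⊆ f '' (V n : Set G) := by
  intro y hy
  have hstep : ∀ (j : ℕ) (z : closure (f '' (V (n + j) : Set G))),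
      ∃ (a : G) (z' : closure (f '' (V (n + (j + 1)) : Set G))), a ∈ V (n + j) ∧ (z : H) = f a + z' := by
    rintro j ⟨z, hz⟩
    have hz' : {w | z - w ∈ closure (f '' (V (n + (j + 1)) : Set G))} ∈ 𝓝 z := by
      refine (continuous_const.sub continuous_id).continuousAt.preimage_mem_nhds ?_
      simpa using hopen (n + (j + 1))
    obtain ⟨w, hw, a, ha, rfl⟩ := mem_closure_iff_nhds.mp hz _ hz'
    exact ⟨a, ⟨z - f a, hw⟩, ha, by simp⟩
  choose a z' ha hz' using hstep
  let z : ∀ j, closure (f '' (V (n + j) : Set G)) := fun j =>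
    Nat.rec (motive := fun j => closure (f '' (V (n + j) : Set G))) ⟨y, hy⟩ (fun j zj => z' j zj) j
  have hsum : Summable fun j => a j (z j) :=
    summable_of_mem_antitone V hV hanti n fun j => ha j (z j)
  obtain ⟨S, hS⟩ := hsum
  have hpart : ∀ N, f (∑ j ∈ Finset.range N, a j (z j)) + z N = y := by
    intro N
    induction N with
    | zero => simp [z]
    | succ N ih =>
      rw [Finset.sum_range_succ, map_add, add_assoc,
        show f (a N (z N)) + (z (N + 1) : H) = z N from (hz' N (z N)).symm, ih]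
  have hz0 : Tendsto (fun N => (z N : H)) atTop (𝓝 0) := by
    intro U hU
    obtain ⟨k, hk⟩ := hsmall U hU
    exact mem_atTop_sets.mpr ⟨k, fun N hN => hk (_root_.closure_mono
      (Set.image_mono (hanti (hN.trans (Nat.le_add_left N n)))) (z N).2)⟩
  have h1 : Tendsto (fun N => f (∑ j ∈ Finset.range N, a j (z j))) atTop (𝓝 y) := by
    have := (tendsto_const_nhds (x := y) (f := atTop)).sub hz0
    rw [sub_zero] at this
    exact this.congr fun N => (eq_sub_of_add_eq (hpart N)).symm
  refine ⟨S, ?_, tendsto_nhds_unique ((hf.tendsto S).comp hS.tendsto_sum_nat) h1⟩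
  refine ((V n).isClosed_of_isOpen ((V n).isOpen_of_mem_nhds (hV.mem_of_mem trivial))).mem_of_tendsto
    hS.tendsto_sum_nat (Eventually.of_forall fun N => sum_mem fun j _ => ?_)
  exact hanti (Nat.le_add_right n j) (ha j (z j))

theorem isOpenMap_and_surjective {H : Type v} [AddCommGroup H] [TopologicalSpace H]
    [IsTopologicalAddGroup H] [T2Space H] (f : G →+ H) (hf : Continuous f) (V : ℕ → AddSubgroup G)
    (hV : (𝓝 (0 : G)).HasBasis (fun _ => True) (fun n => (V n : Set G))) (hanti : Antitone V)
    (hopen : ∀ n, closure (f '' (V n : Set G)) ∈ 𝓝 (0 : H))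
    (hsmall : ∀ U ∈ 𝓝 (0 : H), ∃ n, closure (f '' (V n : Set G)) ⊆ U) (hd : DenseRange f) :
    Function.Surjective f ∧ IsOpenMap f := by
  have hmem : ∀ U ∈ 𝓝 (0 : G), f '' U ∈ 𝓝 (0 : H) := fun U hU => by
    obtain ⟨n, -, hn⟩ := hV.mem_iff.mp hU
    exact Filter.mem_of_superset (hopen n)
      ((closure_image_subset f hf V hV hanti hopen hsmall n).trans (Set.image_mono hn))
  refine ⟨fun y => ?_, ?_⟩
  · have ho : IsOpen (f.range : Set H) := f.range.isOpen_of_mem_nhds (g := 0)
      (Filter.mem_of_superset (hmem _ univ_mem) (by simp))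
    have : (f.range : Set H) = Set.univ :=
      (f.range.isClosed_of_isOpen ho).closure_eq.symm.trans (by rw [AddMonoidHom.coe_range]; exact hd.closure_range)
    exact this.ge (Set.mem_univ y)
  · refine IsOpenMap.of_nhds_le fun x => ?_
    intro U hU
    rw [mem_map] at hU
    have h := hmem ((fun g => x + g) ⁻¹' (f ⁻¹' U))
      ((continuous_const_add x).continuousAt.preimage_mem_nhds (by simpa using hU))
    have h' : (fun w => w - f x) ⁻¹' (f '' ((fun g => x + g) ⁻¹' (f ⁻¹' U))) ∈ 𝓝 (f x) :=
      (continuous_id.sub continuous_const).continuousAt.preimage_mem_nhds (by simpa using h)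
    refine Filter.mem_of_superset h' ?_
    rintro w ⟨g, hg, hgw⟩
    have : w = f (x + g) := (eq_add_of_sub_eq' (show w - f x = f g from hgw.symm)).trans (map_add f x g).symm
    rw [this]
    exact hg

theorem completeSpace_of_controlled {H : Type v} [AddCommGroup H] [UniformSpace H]
    [IsUniformAddGroup H] [T2Space H] (f : G →+ H) (hf : Continuous f) (V : ℕ → AddSubgroup G)
    (hV : (𝓝 (0 : G)).HasBasis (fun _ => True) (fun n => (V n : Set G))) (hanti : Antitone V)
    (hs : Function.Surjective f) (ho : IsOpenMap f) : CompleteSpace H := by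
  have hb : (𝓝 (0 : H)).HasBasis (fun _ : ℕ => True) (fun n => f '' (V n : Set G)) := by
    refine ⟨fun U => ⟨fun hU => ?_, fun ⟨n, _, hn⟩ => Filter.mem_of_superset
      ((map_zero f) ▸ ho.image_mem_nhds (hV.mem_of_mem trivial)) hn⟩⟩
    obtain ⟨n, -, hn⟩ := hV.mem_iff.mp (hf.continuousAt (x := 0) (by rwa [map_zero]))
    exact ⟨n, trivial, Set.image_subset_iff.mpr hn⟩
  have : (𝓝 (0 : H)).IsCountablyGenerated := hb.isCountablyGenerated
  have : (uniformity H).IsCountablyGenerated := IsUniformAddGroup.uniformity_countably_generated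
  refine UniformSpace.complete_of_convergent_controlled_sequences
    (fun n => {p : H × H | p.2 - p.1 ∈ f '' (V n : Set G)}) (fun n => ?_) fun u hu => ?_
  · rw [uniformity_eq_comap_nhds_zero]
    exact Filter.preimage_mem_comap (hb.mem_of_mem trivial)
  · obtain ⟨a₀, ha₀⟩ := hs (u 0)
    have hd : ∀ k, u (k + 1) - u k ∈ f '' (V k : Set G) := fun k => hu k k (k + 1) le_rfl k.le_succ
    choose b hb' hfb using hd
    obtain ⟨S, hS⟩ := summable_of_mem_antitone V hV hanti 0 (c := b)
      fun k => by rw [Nat.zero_add]; exact hb' k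
    refine ⟨f (a₀ + S), ((hf.tendsto _).comp (hS.tendsto_sum_nat.const_add a₀)).congr fun N => ?_⟩
    simp only [Function.comp_apply, map_add, map_sum, hfb, ha₀]
    rw [Finset.sum_range_sub]
    abel

end

theorem closure_map_eq_of_denseRange {A : Type u} [CommRing A] {B : Type v} [CommRing B]
    [TopologicalSpace B] [IsTopologicalRing B] (φ : A →+* B) (hd : DenseRange φ) (I : Ideal A) :
    ((I.map φ).closure : Set B) = closure (φ '' (I : Set A)) := by
  refine Set.Subset.antisymm ?_ (_root_.closure_mono fun _ ⟨a, ha, e⟩ => e ▸ Ideal.mem_map_of_mem φ ha)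
  let K : Ideal B :=
    { carrier := closure (φ '' (I : Set A))
      zero_mem' := subset_closure ⟨0, zero_mem I, map_zero φ⟩
      add_mem' := fun {x y} hx hy => map_mem_closure₂ continuous_add hx hy
        fun _ ⟨a, ha, ea⟩ _ ⟨b, hb, eb⟩ => ⟨a + b, add_mem ha hb, by rw [map_add, ea, eb]⟩
      smul_mem' := fun c x hx => by
        have := map_mem_closure₂ continuous_mul (hd c) hx (u := φ '' (I : Set A))
          fun _ ⟨a, ea⟩ _ ⟨b, hb, eb⟩ => ⟨a * b, I.mul_mem_left a hb, by rw [map_mul, ea, eb]⟩
        exact this }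
  exact closure_minimal (Ideal.map_le_iff_le_comap.mpr fun a ha =>
    show a ∈ K.comap φ from subset_closure ⟨a, ha, rfl⟩) isClosed_closure

theorem surjective_of_isTaut_denseRange {A : Type u} [CommRing A] [UniformSpace A]
    [IsUniformAddGroup A] [IsTopologicalRing A] [IsLinearTopology A A] [CompleteSpace A]
    (hA : (nhds (0 : A)).IsCountablyGenerated) {B : Type v} [CommRing B] [UniformSpace B]
    [IsUniformAddGroup B] [IsTopologicalRing B] [T2Space B]
    (φ : A →+* B) (hφ : IsTaut φ) (hd : DenseRange φ) :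
    Function.Surjective φ ∧ IsOpenQuotientMap φ ∧ CompleteSpace B := by
  obtain ⟨I, hI, hanti⟩ := (hasBasis_open_ideal A).exists_antitone_subbasis
  let V : ℕ → AddSubgroup A := fun n => (I n).toAddSubgroup
  have hV : (𝓝 (0 : A)).HasBasis (fun _ => True) (fun n => (V n : Set A)) := hanti.toHasBasis
  have hanti' : Antitone V := fun m n h => hanti.antitone h
  have key : ∀ n, closure (φ.toAddMonoidHom '' (V n : Set A)) = ((I n).map φ).closure := fun n =>
    (closure_map_eq_of_denseRange φ hd (I n)).symm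
  have hopen : ∀ n, closure (φ.toAddMonoidHom '' (V n : Set A)) ∈ 𝓝 (0 : B) := fun n => by
    rw [key]; exact mem_nhds_of_isOpen (hφ.2.1 _ (hI n))
  have hsmall : ∀ U ∈ 𝓝 (0 : B), ∃ n, closure (φ.toAddMonoidHom '' (V n : Set A)) ⊆ U := fun U hU => by
    obtain ⟨K, hK, hKU⟩ := hφ.2.2 U hU
    obtain ⟨n, -, hn⟩ := hanti.toHasBasis.mem_iff.mp (mem_nhds_of_isOpen hK)
    exact ⟨n, by rw [key]; exact fun x hx => hKU (closure_mono (Ideal.map_mono hn) hx)⟩
  obtain ⟨hs, ho⟩ := isOpenMap_and_surjective φ.toAddMonoidHom hφ.1 V hV hanti' hopen hsmall hd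
  exact ⟨hs, ⟨hs, hφ.1, ho⟩, completeSpace_of_controlled φ.toAddMonoidHom hφ.1 V hV hanti' hs ho⟩

section quotient

variable {R : Type u} [Ring R] {M : Type v} [AddCommGroup M] [Module R M] [UniformSpace M]
  [IsUniformAddGroup M] [IsLinearTopology R M] (N : Submodule R M)

theorem completion_quotient_ker :
    (@UniformSpace.Completion.map M _ (M ⧸ N.toAddSubgroup)
        (IsTopologicalAddGroup.rightUniformSpace (M ⧸ N.toAddSubgroup))
        (QuotientAddGroup.mk' N.toAddSubgroup)) ⁻¹' {0} =
      closure (Set.range (fun n : N => ((n : M) : UniformSpace.Completion M))) := by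
  letI : UniformSpace (M ⧸ N.toAddSubgroup) := IsTopologicalAddGroup.rightUniformSpace _
  haveI : IsUniformAddGroup (M ⧸ N.toAddSubgroup) := isUniformAddGroup_of_addCommGroup
  let q := QuotientAddGroup.mk' N.toAddSubgroup
  have hq : Continuous q := continuous_quotient_mk'
  let F := q.completion hq
  have hFc : Continuous F := q.continuous_completion hq
  show F ⁻¹' {0} = _
  refine Set.Subset.antisymm (fun x hx => ?_) ?_
  · rw [mem_closure_iff_nhds]
    intro W hW
    have hW0 : (fun w => x + w) ⁻¹' W ∈ 𝓝 (0 : UniformSpace.Completion M) :=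
      (continuous_const_add x).continuousAt.preimage_mem_nhds (by simpa using hW)
    obtain ⟨W₁, hW₁, hW₁c, hW₁W⟩ := exists_mem_nhds_isClosed_subset hW0
    obtain ⟨W₂, hW₂, hsum⟩ : ∃ W₂ ∈ 𝓝 (0 : UniformSpace.Completion M),
        ∀ v ∈ W₂, ∀ w ∈ W₂, v + w ∈ W₁ := exists_nhds_zero_half hW₁
    have hp : ((↑) : M → UniformSpace.Completion M) ⁻¹' W₂ ∈ 𝓝 (0 : M) :=
      (UniformSpace.Completion.continuous_coe M).continuousAt (by rwa [UniformSpace.Completion.coe_zero])
    obtain ⟨U, hU, hUW⟩ := (IsLinearTopology.hasBasis_open_submodule R).mem_iff.mp hp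
    have hcl : closure (((↑) : M → UniformSpace.Completion M) '' (U : Set M)) ∈
        𝓝 (0 : UniformSpace.Completion M) := by
      rw [← UniformSpace.Completion.coe_zero]
      exact UniformSpace.Completion.isDenseInducing_coe.closure_image_mem_nhds (hU.mem_nhds (zero_mem U))
    have hnear : {z | z - x ∈ closure (((↑) : M → UniformSpace.Completion M) '' (U : Set M)) ∩ W₂} ∈ 𝓝 x :=
      (continuous_id.sub continuous_const).continuousAt.preimage_mem_nhds
        (by simpa using inter_mem hcl hW₂)
    obtain ⟨_, hm, m, rfl⟩ := mem_closure_iff_nhds.mp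
      (UniformSpace.Completion.denseRange_coe x) _ hnear
    -- the class of `m` lies in the image of `U`
    have hqU : (q m : UniformSpace.Completion (M ⧸ N.toAddSubgroup)) ∈
        closure (((↑) : _ → UniformSpace.Completion (M ⧸ N.toAddSubgroup)) '' (q '' (U : Set M))) := by
      rw [← AddMonoidHom.completion_coe q hq]
      have h2 : F ((m : UniformSpace.Completion M) - x) = F m := by
        rw [map_sub, show F x = 0 from hx, sub_zero]
      rw [← h2]
      exact map_mem_closure hFc hm.1 fun _ ⟨u, hu, e⟩ => ⟨q u, ⟨u, hu, rfl⟩, by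
        rw [← e]; exact (AddMonoidHom.completion_coe q hq u).symm⟩
    have hopen : IsOpen (q '' (U : Set M)) := QuotientAddGroup.isOpenMap_coe _ hU
    have hclosed : IsClosed (q '' (U : Set M)) :=
      (U.toAddSubgroup.map q).isClosed_of_isOpen hopen
    have hqm : q m ∈ q '' (U : Set M) := by
      rw [← hclosed.closure_eq, UniformSpace.Completion.isDenseInducing_coe.isInducing.closure_eq_preimage_closure_image]
      exact hqU
    obtain ⟨u, hu, hum⟩ := hqm
    have hn : m - u ∈ N := by
      have : q (m - u) = 0 := by rw [map_sub, hum, sub_self]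
      exact (QuotientAddGroup.eq_zero_iff _).mp this
    refine ⟨((m - u : M) : UniformSpace.Completion M), ?_, ⟨⟨m - u, hn⟩, rfl⟩⟩
    have h3 : ((m : UniformSpace.Completion M) - x) + ((-u : M) : UniformSpace.Completion M) ∈ W₁ :=
      hsum _ hm.2 _ (hUW (neg_mem hu))
    have := hW₁W h3
    simp only [Set.mem_preimage, UniformSpace.Completion.coe_neg] at this
    rw [UniformSpace.Completion.coe_sub]
    convert this using 1
    abel
  · refine closure_minimal ?_ (isClosed_singleton.preimage hFc)
    rintro _ ⟨n, rfl⟩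
    show F (n : M) = 0
    rw [AddMonoidHom.completion_coe q hq, show q n = 0 from (QuotientAddGroup.eq_zero_iff _).mpr n.2,
      UniformSpace.Completion.coe_zero]

theorem completion_quotient_surjective (hc : (nhds (0 : M)).IsCountablyGenerated) :
    Function.Surjective (@UniformSpace.Completion.map M _ (M ⧸ N.toAddSubgroup)
        (IsTopologicalAddGroup.rightUniformSpace (M ⧸ N.toAddSubgroup))
        (QuotientAddGroup.mk' N.toAddSubgroup)) ∧
      IsOpenMap (@UniformSpace.Completion.map M _ (M ⧸ N.toAddSubgroup)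
        (IsTopologicalAddGroup.rightUniformSpace (M ⧸ N.toAddSubgroup))
        (QuotientAddGroup.mk' N.toAddSubgroup)) := by
  letI : UniformSpace (M ⧸ N.toAddSubgroup) := IsTopologicalAddGroup.rightUniformSpace _
  haveI : IsUniformAddGroup (M ⧸ N.toAddSubgroup) := isUniformAddGroup_of_addCommGroup
  let q := QuotientAddGroup.mk' N.toAddSubgroup
  have hq : Continuous q := continuous_quotient_mk'
  let F := q.completion hq
  have hFc : Continuous F := q.continuous_completion hq
  show Function.Surjective F ∧ IsOpenMap F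
  obtain ⟨U, hU, hanti⟩ := (IsLinearTopology.hasBasis_open_submodule R (M := M)).exists_antitone_subbasis
  let V : ℕ → AddSubgroup (UniformSpace.Completion M) := fun n =>
    ((U n).toAddSubgroup.map UniformSpace.Completion.toCompl).topologicalClosure
  have hVc : ∀ n, (V n : Set (UniformSpace.Completion M)) = closure ((↑) '' (U n : Set M)) := fun n => rfl
  have hVnhds : ∀ n, (V n : Set (UniformSpace.Completion M)) ∈ 𝓝 0 := fun n => by
    rw [hVc, ← UniformSpace.Completion.coe_zero]
    exact UniformSpace.Completion.isDenseInducing_coe.closure_image_mem_nhds ((hU n).mem_nhds (zero_mem _))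
  have hV : (𝓝 (0 : UniformSpace.Completion M)).HasBasis (fun _ => True)
      (fun n => (V n : Set (UniformSpace.Completion M))) := ⟨fun W => ⟨fun hW => by
    obtain ⟨W₁, hW₁, hW₁c, hW₁W⟩ := exists_mem_nhds_isClosed_subset hW
    obtain ⟨n, -, hn⟩ := hanti.toHasBasis.mem_iff.mp
      ((UniformSpace.Completion.continuous_coe M).continuousAt (x := 0)
        (by rwa [UniformSpace.Completion.coe_zero]))
    refine ⟨n, trivial, ?_⟩
    rw [hVc]
    exact (closure_minimal (Set.image_subset_iff.mpr hn) hW₁c).trans hW₁W,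
    fun ⟨n, _, hn⟩ => Filter.mem_of_superset (hVnhds n) hn⟩⟩
  have hVanti : Antitone V := fun m n h x hx => _root_.closure_mono (Set.image_mono (hanti.antitone h)) hx
  have himg : ∀ n, ((↑) : _ → UniformSpace.Completion (M ⧸ N.toAddSubgroup)) '' (q '' (U n : Set M)) ⊆
      F '' (V n : Set (UniformSpace.Completion M)) := by
    rintro n _ ⟨_, ⟨u, hu, rfl⟩, rfl⟩
    exact ⟨(u : UniformSpace.Completion M), subset_closure ⟨u, hu, rfl⟩, AddMonoidHom.completion_coe q hq u⟩
  refine isOpenMap_and_surjective F hFc V hV hVanti (fun n => ?_) (fun W hW => ?_) ?_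
  · have ho : q '' (U n : Set M) ∈ 𝓝 (0 : M ⧸ N.toAddSubgroup) :=
      (QuotientAddGroup.isOpenMap_coe _ (hU n)).mem_nhds ⟨0, zero_mem _, map_zero q⟩
    have := UniformSpace.Completion.isDenseInducing_coe.closure_image_mem_nhds ho
    rw [UniformSpace.Completion.coe_zero] at this
    exact Filter.mem_of_superset this (_root_.closure_mono (himg n))
  · obtain ⟨W₁, hW₁, hW₁c, hW₁W⟩ := exists_mem_nhds_isClosed_subset hW
    obtain ⟨n, -, hn⟩ := hV.mem_iff.mp (hFc.continuousAt (x := 0) (by rwa [map_zero]))
    exact ⟨n, (closure_minimal (Set.image_subset_iff.mpr hn) hW₁c).trans hW₁W⟩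
  · refine Dense.mono ?_ (UniformSpace.Completion.denseRange_coe (α := M ⧸ N.toAddSubgroup))
    rintro _ ⟨y, rfl⟩
    obtain ⟨m, rfl⟩ := QuotientAddGroup.mk'_surjective N.toAddSubgroup y
    exact ⟨m, AddMonoidHom.completion_coe q hq m⟩

end quotient

end Groth.Agent.LinTop7
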