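import Groth.Agent.LinTop7.Defs
import Mathlib.Topology.Algebra.UniformRing
import Mathlib.Topology.DenseEmbedding

/-!
# Taut homomorphisms, weakly adic rings
-/

noncomputable section

namespace Groth.Agent.LinTop7

universe u v w

open Topology Filter LinTop

variable {A : Type u} [CommRing A] [TopologicalSpace A] [IsTopologicalRing A]
variable {B : Type v} [CommRing B] [TopologicalSpace B] [IsTopologicalRing B]

theorem isWeakIdealOfDefinition_inf [IsLinearTopology A A] {I K : Ideal A}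
    (hI : IsWeakIdealOfDefinition A I) (hK : IsOpen (K : Set A)) :
    IsWeakIdealOfDefinition A (I ⊓ K) :=
  ⟨hI.1.inter hK, fun f hf => hI.2 f hf.1⟩

theorem image_closure_subset (φ : A →+* B) (hφ : Continuous φ) (I : Ideal A) :
    I.closure.map φ ≤ (I.map φ).closure :=
  Ideal.map_le_iff_le_comap.mpr fun x hx =>
    map_mem_closure hφ hx fun _ hy => Ideal.mem_map_of_mem φ hy

theorem map_closure_closure (φ : A →+* B) (hφ : Continuous φ) (I : Ideal A) :
    (I.closure.map φ).closure = (I.map φ).closure :=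
  le_antisymm ((closure_mono (image_closure_subset φ hφ I)).trans (closure_closure _).le)
    (closure_mono (Ideal.map_mono (le_closure I)))

theorem isTaut_iff_weak [IsLinearTopology A A] [IsLinearTopology B B]
    (hA : IsWeaklyPreadmissible A) (φ : A →+* B) (hφ : Continuous φ) :
    IsTaut φ ↔
      ((∀ I : Ideal A, IsWeakIdealOfDefinition A I → IsWeakIdealOfDefinition B (I.map φ).closure) ∧
        ∀ U ∈ nhds (0 : B), ∃ I : Ideal A, IsWeakIdealOfDefinition A I ∧
          ((I.map φ).closure : Set B) ⊆ U) := by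
  obtain ⟨_, I₀, hI₀⟩ := hA
  constructor
  · rintro ⟨-, h1, h2⟩
    refine ⟨fun I hI => ⟨h1 I hI.1, isTopologicallyNilpotent_of_mem_closure φ hφ I hI.2⟩, fun U hU => ?_⟩
    obtain ⟨I, hI, hIU⟩ := h2 U hU
    exact ⟨I₀ ⊓ I, isWeakIdealOfDefinition_inf hI₀ hI,
      fun x hx => hIU (closure_mono (Ideal.map_mono inf_le_right) hx)⟩
  · rintro ⟨h1, h2⟩
    refine ⟨hφ, fun I hI => ?_, fun U hU => ?_⟩
    · exact isOpen_of_le (closure_mono (Ideal.map_mono inf_le_right))
        (h1 _ (isWeakIdealOfDefinition_inf hI₀ hI)).1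
    · obtain ⟨I, hI, hIU⟩ := h2 U hU
      exact ⟨I, hI.1, hIU⟩

theorem isTaut_of_comp {C : Type w} [CommRing C] [TopologicalSpace C] [IsTopologicalRing C]
    [IsLinearTopology C C] (φ : A →+* B) (ψ : B →+* C) (hφ : Continuous φ) (hψ : Continuous ψ)
    (h : IsTaut (ψ.comp φ)) : IsTaut ψ := by
  refine ⟨hψ, fun J hJ => ?_, fun U hU => ?_⟩
  · have hI : IsOpen ((J.comap φ : Ideal A) : Set A) := hJ.preimage hφ
    refine isOpen_of_le (closure_mono ?_) (h.2.1 _ hI)
    rw [← Ideal.map_map]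
    exact Ideal.map_mono Ideal.map_comap_le
  · obtain ⟨U', hU', hU'U⟩ := (hasBasis_open_ideal C).mem_iff.mp hU
    refine ⟨U'.comap ψ, hU'.preimage hψ, fun x hx => hU'U ?_⟩
    exact closure_le hU' Ideal.map_comap_le hx

theorem isCountablyGenerated_of_isTaut [IsLinearTopology A A] [IsLinearTopology B B] (φ : A →+* B)
    (hφ : IsTaut φ) (hA : (nhds (0 : A)).IsCountablyGenerated) :
    (nhds (0 : B)).IsCountablyGenerated := by
  obtain ⟨I, hI, hanti⟩ := (hasBasis_open_ideal A).exists_antitone_subbasis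
  refine HasBasis.isCountablyGenerated (p := fun _ : ℕ => True)
    (s := fun n => (((I n).map φ).closure : Set B)) ⟨fun U => ⟨fun hU => ?_, fun ⟨n, _, hn⟩ => ?_⟩⟩
  · obtain ⟨K, hK, hKU⟩ := hφ.2.2 U hU
    obtain ⟨n, -, hn⟩ := hanti.toHasBasis.mem_iff.mp (mem_nhds_of_isOpen hK)
    exact ⟨n, trivial, fun x hx => hKU (closure_mono (Ideal.map_mono hn) hx)⟩
  · exact Filter.mem_of_superset (mem_nhds_of_isOpen (hφ.2.1 _ (hI n))) hn

theorem isWeaklyPreadmissible_of_isTaut [IsLinearTopology B B] (φ : A →+* B) (hφ : IsTaut φ)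
    (hA : IsWeaklyPreadmissible A) : IsWeaklyPreadmissible B := by
  obtain ⟨_, I, hI⟩ := hA
  exact ⟨inferInstance, (I.map φ).closure, hφ.2.1 I hI.1,
    isTopologicallyNilpotent_of_mem_closure φ hφ.1 I hI.2⟩

theorem isPreadmissible_of_isTaut [IsLinearTopology B B] (φ : A →+* B) (hφ : IsTaut φ)
    (hA : IsPreadmissible A) : IsPreadmissible B := by
  obtain ⟨_, I, hI⟩ := hA
  refine ⟨inferInstance, (I.map φ).closure, hφ.2.1 I hI.1, fun U hU => ?_⟩
  obtain ⟨K, hK, hKU⟩ := hφ.2.2 U hU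
  obtain ⟨n, hn, hnK⟩ := pow_le_of_isIdealOfDefinition hI hK
  refine ⟨n, hn, fun x hx => hKU ?_⟩
  have := closure_pow_le _ n hx
  rw [← Ideal.map_pow] at this
  exact closure_mono (Ideal.map_mono hnK) this

theorem isWeaklyPreadic_of_isPreadic (hA : IsPreadic A) : IsWeaklyPreadic A := by
  obtain ⟨I, hI⟩ := hA
  obtain ⟨h1, h2⟩ := isAdic_iff.mp hI
  refine ⟨isLinearTopology_of_isAdic hI, I, fun n => ?_, fun U hU => ?_⟩
  · rw [(isClosed_of_isOpen (h1 n)).closure_eq]; exact h1 n
  · obtain ⟨n, hn⟩ := h2 U hU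
    exact ⟨n, by rwa [(isClosed_of_isOpen (h1 n)).closure_eq]⟩

theorem isWeaklyPreadic_of_isTaut [IsLinearTopology B B] (φ : A →+* B) (hφ : IsTaut φ)
    (hA : IsWeaklyPreadic A) : IsWeaklyPreadic B := by
  obtain ⟨_, I, h1, h2⟩ := hA
  have key : ∀ n, ((I ^ n).closure.map φ).closure = ((I.map φ) ^ n).closure := fun n => by
    rw [map_closure_closure φ hφ.1, Ideal.map_pow]
  refine ⟨inferInstance, I.map φ, fun n => ?_, fun U hU => ?_⟩
  · show IsOpen (((I.map φ) ^ n).closure : Set B)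
    rw [← key]
    exact hφ.2.1 _ (h1 n)
  · obtain ⟨K, hK, hKU⟩ := hφ.2.2 U hU
    obtain ⟨n, hn⟩ := h2 _ (mem_nhds_of_isOpen hK)
    refine ⟨n, fun x hx => hKU ?_⟩
    have hx' : x ∈ ((I.map φ) ^ n).closure := hx
    rw [← key] at hx'
    exact closure_mono (Ideal.map_mono hn) hx'

theorem isTaut_of_isAdicHom (φ : A →+* B) (hφ : Continuous φ)
    (h : IsAdicHom φ) : IsTaut φ := by
  obtain ⟨I, hI, hB⟩ := h
  obtain ⟨h1, h2⟩ := isAdic_iff.mp hB
  refine ⟨hφ, fun K hK => ?_, fun U hU => ?_⟩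
  · obtain ⟨n, -, hn⟩ := pow_le_of_isIdealOfDefinition hI hK
    show IsOpen ((K.map φ).closure : Set B)
    refine isOpen_of_le ((Ideal.map_mono hn).trans (le_closure _)) ?_
    rw [Ideal.map_pow]; exact h1 n
  · obtain ⟨n, hn⟩ := h2 U hU
    refine ⟨I ^ (n + 1) ⊔ (((I.map φ) ^ n).comap φ), isOpen_of_le le_sup_right ((h1 n).preimage hφ), ?_⟩
    intro x hx
    refine hn (closure_le (h1 n) ?_ hx)
    rw [Ideal.map_sup, Ideal.map_pow]
    exact sup_le (Ideal.pow_le_pow_right n.le_succ) Ideal.map_comap_le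

theorem isAdicHom_of_comp {C : Type w} [CommRing C] [TopologicalSpace C] [IsTopologicalRing C]
    (hB : IsPreadic B) (φ : A →+* B) (ψ : B →+* C) (hφ : Continuous φ) (hψ : Continuous ψ)
    (h : IsAdicHom (ψ.comp φ)) : IsAdicHom ψ := by
  obtain ⟨I, hI, hC⟩ := h
  rw [← Ideal.map_map] at hC
  obtain ⟨J₀, hJ₀⟩ := hB
  have hJ₀' := isIdealOfDefinition_of_isAdic hJ₀
  obtain ⟨n, hn, hnJ⟩ := pow_le_of_isIdealOfDefinition hI
    (U := J₀.comap φ) (hJ₀'.1.preimage hφ)
  obtain ⟨J, hJ, hle⟩ := (exists_idealOfDefinition_ge_iff hJ₀' (I.map φ)).mpr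
    ⟨n, hn, by rw [← Ideal.map_pow]; exact (Ideal.map_mono hnJ).trans Ideal.map_comap_le⟩
  refine ⟨J, hJ, isAdic_iff.mpr ⟨fun k => ?_, fun U hU => ?_⟩⟩
  · exact isOpen_of_le (Ideal.pow_right_mono (Ideal.map_mono hle) k) ((isAdic_iff.mp hC).1 k)
  · obtain ⟨m, -, hm⟩ := pow_le_of_isIdealOfDefinition hJ
      (U := ((I.map φ).map ψ).comap ψ) ((by simpa using (isAdic_iff.mp hC).1 1 :
        IsOpen (((I.map φ).map ψ : Ideal C) : Set C)).preimage hψ)
    obtain ⟨k, hk⟩ := (isAdic_iff.mp hC).2 U hU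
    refine ⟨m * k, fun x hx => hk ?_⟩
    rw [SetLike.mem_coe, pow_mul, ← Ideal.map_pow] at hx
    exact Ideal.pow_right_mono (Ideal.map_le_iff_le_comap.mpr hm) k hx

theorem isAdmissible_of_isWeaklyAdic {A : Type u} [CommRing A] [UniformSpace A]
    [IsUniformAddGroup A] [IsTopologicalRing A] (hA : IsWeaklyAdic A) :
    IsAdmissible A ∧ (nhds (0 : A)).IsCountablyGenerated := by
  obtain ⟨⟨_, I, h1, h2⟩, hT, hC⟩ := hA
  refine ⟨⟨⟨inferInstance, (I ^ 1).closure, h1 1, fun U hU => ?_⟩, hT, hC⟩, ?_⟩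
  · obtain ⟨n, hn⟩ := h2 U hU
    refine ⟨n + 1, n.succ_pos, fun x hx => hn ?_⟩
    have := closure_pow_le (I ^ 1) (n + 1) hx
    rw [pow_one] at this
    exact closure_mono (Ideal.pow_le_pow_right n.le_succ) this
  · exact HasBasis.isCountablyGenerated (p := fun _ : ℕ => True)
      (s := fun n => ((I ^ n).closure : Set A))
      ⟨fun U => ⟨fun hU => (h2 U hU).imp fun n hn => ⟨trivial, hn⟩,
        fun ⟨n, _, hn⟩ => Filter.mem_of_superset (mem_nhds_of_isOpen (h1 n)) hn⟩⟩

theorem isWeaklyPreadic_of_def [IsLinearTopology A A] {I : Ideal A} (hI : IsIdealOfDefinition A I)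
    (h : ∀ n : ℕ, 0 < n → IsOpen (closure ((I ^ n : Ideal A) : Set A))) : IsWeaklyPreadic A := by
  refine ⟨inferInstance, I, fun n => ?_, fun U hU => ?_⟩
  · rcases Nat.eq_zero_or_pos n with rfl | hn
    · simp
    · exact h n hn
  · obtain ⟨U', hU', hU'U⟩ := (hasBasis_open_ideal A).mem_iff.mp hU
    obtain ⟨n, -, hn⟩ := pow_le_of_isIdealOfDefinition hI hU'
    exact ⟨n, fun x hx => hU'U (closure_le hU' hn hx)⟩

theorem open_closure_pow_of_isWeaklyPreadic (hA : IsWeaklyPreadic A) {I' : Ideal A}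
    (hI' : IsIdealOfDefinition A I') (n : ℕ) : IsOpen (closure ((I' ^ n : Ideal A) : Set A)) := by
  obtain ⟨_, I, h1, h2⟩ := hA
  obtain ⟨m, hm⟩ := h2 _ (mem_nhds_of_isOpen hI'.1)
  show IsOpen ((I' ^ n).closure : Set A)
  refine isOpen_of_le (closure_mono ?_) (h1 (m * n))
  rw [pow_mul]
  exact Ideal.pow_right_mono ((le_closure _).trans hm) n

/-- A ring equipped with the adic topology of an ideal. -/
def AdicOf (_I : Ideal A) : Type u := A

instance AdicOf.commRing (I : Ideal A) : CommRing (AdicOf I) := inferInstanceAs (CommRing A)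

instance AdicOf.topology (I : Ideal A) : TopologicalSpace (AdicOf I) := I.adicTopology

instance AdicOf.topologicalRing (I : Ideal A) : IsTopologicalRing (AdicOf I) :=
  I.ringFilterBasis.isTopologicalRing

/-- The identity map. -/
def AdicOf.toBase (I : Ideal A) : AdicOf I →+* A := RingHom.id A

theorem AdicOf.isTaut (I : Ideal A) (h1 : ∀ n : ℕ, IsOpen (closure ((I ^ n : Ideal A) : Set A)))
    (h2 : ∀ U ∈ nhds (0 : A), ∃ n : ℕ, closure ((I ^ n : Ideal A) : Set A) ⊆ U) :
    IsTaut (AdicOf.toBase I) := by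
  let I' : Ideal (AdicOf I) := I
  have hb : (nhds (0 : AdicOf I)).HasBasis (fun _ : ℕ => True)
      (fun n => ((I' ^ n : Ideal (AdicOf I)) : Set (AdicOf I))) := Ideal.hasBasis_nhds_zero_adic I
  refine ⟨?_, fun K hK => ?_, fun U hU => ?_⟩
  · refine continuous_of_continuousAt_zero (AdicOf.toBase I).toAddMonoidHom ?_
    intro U hU
    rw [map_zero] at hU
    obtain ⟨n, hn⟩ := h2 U hU
    exact Filter.mem_of_superset (hb.mem_of_mem (i := n) trivial) fun x hx => hn (subset_closure hx)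
  · obtain ⟨n, -, hn⟩ := hb.mem_iff.mp (mem_nhds_of_isOpen hK)
    show IsOpen ((K.map (AdicOf.toBase I)).closure : Set A)
    refine isOpen_of_le (closure_mono (fun x hx => ?_)) (h1 n)
    exact Ideal.mem_map_of_mem (AdicOf.toBase I) (hn hx)
  · obtain ⟨n, hn⟩ := h2 U hU
    refine ⟨I' ^ n, ?_, fun x hx => hn ?_⟩
    · exact (I' ^ n).toAddSubgroup.isOpen_of_mem_nhds (hb.mem_of_mem (i := n) trivial)
    · exact closure_mono (Ideal.map_le_iff_le_comap.mpr (fun y hy => hy) : (I' ^ n).map (AdicOf.toBase I) ≤ I ^ n) hx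

theorem tfae_isWeaklyPreadic (A : Type u) [CommRing A] [TopologicalSpace A] [IsTopologicalRing A]
    [IsLinearTopology A A] :
    List.TFAE [IsWeaklyPreadic A,
      ∃ (A' : Type u) (_ : CommRing A') (_ : TopologicalSpace A') (_ : IsTopologicalRing A')
        (φ : A' →+* A), IsPreadic A' ∧ IsTaut φ,
      IsPreadmissible A ∧ ∃ I : Ideal A, IsIdealOfDefinition A I ∧
        ∀ n : ℕ, 0 < n → IsOpen (closure ((I ^ n : Ideal A) : Set A)),
      IsPreadmissible A ∧ ∀ I : Ideal A, IsIdealOfDefinition A I →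
        ∀ n : ℕ, 0 < n → IsOpen (closure ((I ^ n : Ideal A) : Set A))] := by
  tfae_have 1 → 4 := fun h => by
    obtain ⟨_, I, h1, h2⟩ := h
    have hp : IsPreadmissible A := ⟨inferInstance, (I ^ 1).closure, h1 1, fun U hU => by
      obtain ⟨n, hn⟩ := h2 U hU
      refine ⟨n + 1, n.succ_pos, fun x hx => hn ?_⟩
      have := closure_pow_le (I ^ 1) (n + 1) hx
      rw [pow_one] at this
      exact closure_mono (Ideal.pow_le_pow_right n.le_succ) this⟩
    exact ⟨hp, fun I' hI' n _ => open_closure_pow_of_isWeaklyPreadic ⟨inferInstance, I, h1, h2⟩ hI' n⟩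
  tfae_have 4 → 3 := fun ⟨hp, h⟩ => by
    obtain ⟨_, I, hI⟩ := hp
    exact ⟨⟨inferInstance, I, hI⟩, I, hI, h I hI⟩
  tfae_have 3 → 1 := fun ⟨_, I, hI, h⟩ => isWeaklyPreadic_of_def hI h
  tfae_have 1 → 2 := fun h => by
    obtain ⟨_, I, h1, h2⟩ := h
    exact ⟨AdicOf I, inferInstance, inferInstance, inferInstance, AdicOf.toBase I, ⟨(I : Ideal A), rfl⟩,
      AdicOf.isTaut I h1 h2⟩
  tfae_have 2 → 1 := fun ⟨A', _, _, _, φ, hA', hφ⟩ =>
    isWeaklyPreadic_of_isTaut φ hφ (isWeaklyPreadic_of_isPreadic hA')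
  tfae_finish

theorem isAdic_of_fg_closure {A : Type u} [CommRing A] [UniformSpace A] [IsUniformAddGroup A]
    [IsTopologicalRing A] [IsLinearTopology A A] [T2Space A] [CompleteSpace A]
    (I : Ideal A) (hfg : I.FG) (hopen : ∀ n : ℕ, IsOpen (closure ((I ^ n : Ideal A) : Set A)))
    (hbasis : ∀ U ∈ nhds (0 : A), ∃ n : ℕ, closure ((I ^ n : Ideal A) : Set A) ⊆ U) :
    IsAdic I := by
  have key : ∀ n, (I ^ n).closure = I ^ n := fun n => by
    refine le_antisymm (le_pow_of_le_pow_sup I hfg (fun k => (I ^ k).closure) (fun U hU => ?_)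
      (fun U hU => ?_) n fun k _ => closure_subset_sup (I ^ k) _ ?_) (le_closure _)
    · obtain ⟨k, hk⟩ := hbasis _ (mem_nhds_of_isOpen hU)
      exact ⟨k, fun x hx => hk (subset_closure hx)⟩
    · obtain ⟨k, hk⟩ := hbasis _ (mem_nhds_of_isOpen hU)
      exact ⟨k, fun m hm x hx => hk (closure_mono (Ideal.pow_le_pow_right hm) hx)⟩
    · exact hopen (k + 1)
  refine isAdic_iff.mpr ⟨fun n => ?_, fun U hU => ?_⟩
  · rw [← key n]; exact hopen n
  · exact (hbasis U hU).imp fun n hn x hx => hn (subset_closure hx)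

theorem isAdic_map_of_isTaut {B : Type v} [CommRing B] [UniformSpace B] [IsUniformAddGroup B]
    [IsTopologicalRing B] [IsLinearTopology B B] [T2Space B] [CompleteSpace B]
    (hA : IsPreadic A) {I : Ideal A} (hI : IsIdealOfDefinition A I) (hfg : I.FG)
    (φ : A →+* B) (hφ : IsTaut φ) : IsAdic (I.map φ) := by
  have hadic := isAdic_of_isIdealOfDefinition hA hI
  refine isAdic_of_fg_closure _ (hfg.map _) (fun n => ?_) fun U hU => ?_
  · rw [← Ideal.map_pow]; exact hφ.2.1 _ ((isAdic_iff.mp hadic).1 n)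
  · obtain ⟨K, hK, hKU⟩ := hφ.2.2 U hU
    obtain ⟨n, hn⟩ := (isAdic_iff.mp hadic).2 _ (mem_nhds_of_isOpen hK)
    refine ⟨n, fun x hx => hKU ?_⟩
    have hx' : x ∈ ((I.map φ) ^ n).closure := hx
    rw [← Ideal.map_pow] at hx'
    exact closure_mono (Ideal.map_mono (show I ^ n ≤ K from hn)) hx'

theorem isAdicRing_of_fg_cotangent {A : Type u} [CommRing A] [UniformSpace A] [IsUniformAddGroup A]
    [IsTopologicalRing A] (hA : IsWeaklyAdic A) (I : Ideal A) (hI : IsIdealOfDefinition A I)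
    (hfg : (I.map (Ideal.Quotient.mk ((I ^ 2).closure))).FG) :
    IsAdicRing A ∧ ∃ J : Ideal A, IsIdealOfDefinition A J ∧ J.FG := by
  classical
  obtain ⟨hw, hT, hC⟩ := hA
  have hopen := open_closure_pow_of_isWeaklyPreadic hw hI
  obtain ⟨_, -⟩ := hw
  obtain ⟨s, hs, hspan⟩ := (Submodule.fg_span_iff_fg_span_finset_subset
    ((Ideal.Quotient.mk (I ^ 2).closure) '' (I : Set A))).mp hfg
  choose g hg hgx using fun x : s => hs x.2
  let J : Ideal A := Ideal.span (Set.range g)
  have hJI : J ≤ I := Ideal.span_le.mpr (Set.range_subset_iff.mpr hg)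
  have hI2 : I ≤ J ⊔ (I ^ 2).closure := by
    intro x hx
    have hx' : Ideal.Quotient.mk (I ^ 2).closure x ∈ J.map (Ideal.Quotient.mk _) := by
      have h1 : Ideal.Quotient.mk (I ^ 2).closure x ∈ Submodule.span _ (s : Set _) :=
        hspan.le (Submodule.subset_span ⟨x, hx, rfl⟩)
      refine (Submodule.span_le.mpr fun z hz => ?_) h1
      rw [show z = Ideal.Quotient.mk _ (g ⟨z, hz⟩) from (hgx ⟨z, hz⟩).symm]
      exact Ideal.mem_map_of_mem _ (Ideal.subset_span (Set.mem_range_self _))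
    have := (Ideal.comap_map_of_surjective (Ideal.Quotient.mk (I ^ 2).closure)
      Ideal.Quotient.mk_surjective J).le hx'
    rwa [← RingHom.ker_eq_comap_bot, Ideal.mk_ker] at this
  have hn : ∀ n, I ^ n ≤ J ^ n ⊔ (I ^ (n + 1)).closure := by
    intro n
    induction n with
    | zero => simp
    | succ n ih =>
      rw [pow_succ]
      refine (Ideal.mul_mono_left ih).trans ?_
      rw [Ideal.sup_mul]
      refine sup_le ((Ideal.mul_mono_right hI2).trans ?_) (le_sup_of_le_right ?_)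
      · rw [Ideal.mul_sup, ← pow_succ]
        refine sup_le le_sup_left (le_sup_of_le_right ?_)
        refine (Ideal.mul_mono ((Ideal.pow_right_mono hJI n).trans (le_closure _)) le_rfl).trans ?_
        exact (closure_mul_le _ _).trans (closure_mono (by rw [← pow_add]))
      · refine (Ideal.mul_mono le_rfl (le_closure I)).trans ?_
        exact (closure_mul_le _ _).trans (closure_mono (by rw [← pow_succ]))
  have hstep : ∀ k, (I ^ k).closure ≤ J ^ k ⊔ (I ^ (k + 1)).closure := fun k =>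
    closure_le (isOpen_of_le le_sup_right (hopen (k + 1))) (hn k)
  have hsmall : ∀ U : Ideal A, IsOpen (U : Set A) → ∃ k, (I ^ k).closure ≤ U := fun U hU => by
    obtain ⟨k, -, hk⟩ := pow_le_of_isIdealOfDefinition hI hU
    exact ⟨k, closure_le hU hk⟩
  have hJfg : J.FG := Submodule.fg_span (Set.finite_range g)
  have key : ∀ n, (I ^ n).closure ≤ J ^ n := fun n =>
    le_pow_of_le_pow_sup J hJfg (fun k => (I ^ k).closure)
      (fun U hU => (hsmall U hU).imp fun k hk => (Ideal.pow_right_mono hJI k).trans ((le_closure _).trans hk))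
      (fun U hU => (hsmall U hU).imp fun k hk m hm => (closure_mono (Ideal.pow_le_pow_right hm)).trans hk)
      n fun k _ => hstep k
  have hJadic : IsAdic J := by
    refine isAdic_iff.mpr ⟨fun n => isOpen_of_le (key n) (hopen n), fun U hU => ?_⟩
    obtain ⟨n, -, hn'⟩ := hI.2 U hU
    exact ⟨n, fun x hx => hn' (Ideal.pow_right_mono hJI n hx)⟩
  exact ⟨⟨⟨J, hJadic⟩, hT, hC⟩, J, isIdealOfDefinition_of_isAdic hJadic, hJfg⟩

section Completion

open UniformSpace

variable (A : Type u) [CommRing A] [UniformSpace A] [IsUniformAddGroup A] [IsTopologicalRing A]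
  [IsLinearTopology A A]

theorem closure_map_coe (I : Ideal A) :
    ((I.map (Completion.coeRingHom : A →+* Completion A)).closure : Set (Completion A)) =
      closure ((↑) '' (I : Set A)) := by
  refine Set.Subset.antisymm ?_ (_root_.closure_mono fun _ ⟨a, ha, e⟩ => e ▸ Ideal.mem_map_of_mem _ ha)
  let K : Ideal (Completion A) :=
    { carrier := closure ((↑) '' (I : Set A))
      zero_mem' := subset_closure ⟨0, zero_mem I, Completion.coe_zero⟩
      add_mem' := fun {x y} hx hy => map_mem_closure₂ continuous_add hx hy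
        fun _ ⟨a, ha, ea⟩ _ ⟨b, hb, eb⟩ => ⟨a + b, add_mem ha hb, by rw [Completion.coe_add, ea, eb]⟩
      smul_mem' := fun c x hx => by
        induction c using Completion.induction_on with
        | hp => exact isClosed_closure.preimage (continuous_mul_const x)
        | ih a =>
          exact map_mem_closure (continuous_const_mul _) hx fun _ ⟨b, hb, eb⟩ =>
            ⟨a * b, I.mul_mem_left a hb, by rw [Completion.coe_mul, eb]; rfl⟩ }
  exact closure_minimal (Ideal.map_le_iff_le_comap.mpr fun a ha =>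
    show a ∈ K.comap Completion.coeRingHom from subset_closure ⟨a, ha, rfl⟩) isClosed_closure

theorem isTaut_coeRingHom : IsTaut (Completion.coeRingHom : A →+* Completion A) := by
  refine ⟨Completion.continuous_coe A, fun I hI => ?_, fun U hU => ?_⟩
  · show IsOpen ((I.map (Completion.coeRingHom : A →+* Completion A)).closure : Set (Completion A))
    refine AddSubgroup.isOpen_of_mem_nhds
      (I.map (Completion.coeRingHom : A →+* Completion A)).closure.toAddSubgroup (g := 0) ?_
    show ((I.map (Completion.coeRingHom : A →+* Completion A)).closure : Set (Completion A)) ∈ 𝓝 0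
    rw [closure_map_coe, ← Completion.coe_zero]
    exact Completion.isDenseInducing_coe.closure_image_mem_nhds (mem_nhds_of_isOpen hI)
  · obtain ⟨V, hV, hVc, hVU⟩ := exists_mem_nhds_isClosed_subset hU
    have := (Completion.continuous_coe A).continuousAt (x := 0)
      (by rw [Completion.coe_zero]; exact hV)
    obtain ⟨I, hI, hIV⟩ := (hasBasis_open_ideal A).mem_iff.mp this
    refine ⟨I, hI, fun x hx => hVU ?_⟩
    have hx' : x ∈ ((I.map (Completion.coeRingHom : A →+* Completion A)).closure : Set (Completion A)) := hx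
    rw [closure_map_coe] at hx'
    exact closure_minimal (by rintro _ ⟨a, ha, rfl⟩; exact hIV ha) hVc hx'

theorem isLinearTopology_completion : IsLinearTopology (Completion A) (Completion A) := by
  obtain ⟨-, h1, h2⟩ := isTaut_coeRingHom A
  refine IsLinearTopology.mk_of_hasBasis (Completion A) (ι := Ideal A) (S := Ideal (Completion A))
    (p := fun I => IsOpen (I : Set A))
    (s := fun I => (I.map (Completion.coeRingHom : A →+* Completion A)).closure)
    ⟨fun U => ⟨fun hU => ?_, fun ⟨I, hI, hIU⟩ => Filter.mem_of_superset (mem_nhds_of_isOpen (h1 I hI)) hIU⟩⟩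
  exact h2 U hU

theorem isWeaklyAdic_completion (hA : IsWeaklyPreadic A) : IsWeaklyAdic (Completion A) :=
  have := isLinearTopology_completion A
  ⟨isWeaklyPreadic_of_isTaut _ (isTaut_coeRingHom A) hA, inferInstance, inferInstance⟩

end Completion

end Groth.Agent.LinTop7
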